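import Groth.Agent.WeilAVLib.AutFinite
import Groth.Agent.AVLib.Gen
import Groth.Agent.AVLib.AmpleCrit
import Groth.Agent.AVLib.Invariant
import Groth.Agent.AmpleEmb.Misc
import Groth.Agent.AmpleEmb.GenFinite
import Groth.Agent.CubeLib.SeesawPoint

/-!
# Effective classes on an abelian variety
-/

set_option autoImplicit false
set_option backward.isDefEq.respectTransparency false
set_option linter.style.haveILetI false
set_option synthInstance.maxHeartbeats 400000
set_option maxHeartbeats 1000000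

universe u

open CategoryTheory CategoryTheory.Limits MonoidalCategory CartesianMonoidalCategory MonObj AlgebraicGeometry
open Groth.Agent.PicLib (Pic cls exists_cls pull pull_cls cls_tensor cls_tensorPow cls_eq_cls cls_eq_one)
open Groth.Agent.AmpleLib

noncomputable section

namespace Groth.Agent.WeilAVLib

variable {K : Type u} [Field K] {A : Over (Spec (CommRingCat.of K))} [GrpObj A] [IsCommMonObj A]
  [IsProper A.hom] [GeometricallyIntegral A.hom] {g : ℕ} (hA : topologicalKrullDim A.left = g)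

include hA in
/-- The intersection number is invariant under inversion. -/
theorem topA_pull_inv (c : Fin g → Pic A.left) :
    topA A (fun i => pull ((𝟙 A)⁻¹).left (c i)) = topA A c := by
  letI := DegPolyLib.overStr A
  haveI : IsProper (A.left ↘ Spec (CommRingCat.of K)) := ‹IsProper A.hom›
  haveI : IsIntegral A.left := GeometricallyIntegral.isIntegral_of_subsingleton A.hom
  have hii : (𝟙 A)⁻¹ ≫ (𝟙 A)⁻¹ = 𝟙 A := by rw [GrpObj.inv_comp, Category.id_comp, inv_inv]
  haveI : IsIso ((𝟙 A)⁻¹ : A ⟶ A) := ⟨(𝟙 A)⁻¹, hii, hii⟩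
  haveI : IsMonHom ((𝟙 A)⁻¹ : A ⟶ A) :=
    inferInstanceAs (IsMonHom (EndAV.End.toHom (-1 : EndAV.End A)))
  haveI : IsIso ((𝟙 A)⁻¹ : A ⟶ A).left := inferInstanceAs (IsIso ((Over.forget _).map ((𝟙 A)⁻¹ : A ⟶ A)))
  have h1 : DegPolyLib.deg ((𝟙 A)⁻¹ : A ⟶ A) * DegPolyLib.deg ((𝟙 A)⁻¹ : A ⟶ A) = 1 := by
    rw [← DegPolyLib.deg_comp hA hA hA, hii, ← EndAV.End.toHom_one]
    exact DegPolyLib.degE_one hA
  haveI := AVLib.surjective_of_isFinite ((𝟙 A)⁻¹ : A ⟶ A) rfl
  show DegPolyLib.top K (fun i => pull ((𝟙 A)⁻¹ : A ⟶ A).left (c i)) = _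
  rw [DegPolyLib.top_pull_of_finite K _ (Over.w _) hA hA c (genericPoint A.left),
    ← DegPolyLib.deg_eq_finrank hA hA ((𝟙 A)⁻¹ : A ⟶ A) inferInstance, Nat.eq_one_of_mul_eq_one_right h1,
    Nat.cast_one, _root_.one_mul]
  rfl

include hA in
theorem slot_pull_inv {c : Pic A.left} (hc : pull ((𝟙 A)⁻¹).left c = c) (i : Fin g) (a : Pic A.left) :
    topA A (Function.update (fun _ => c) i (pull ((𝟙 A)⁻¹).left a)) = topA A (Function.update (fun _ => c) i a) := by
  refine Eq.trans ?_ (topA_pull_inv hA (Function.update (fun _ => c) i a))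
  congr 1
  funext j
  rcases eq_or_ne j i with rfl | hj
  · rw [Function.update_self, Function.update_self]
  · rw [Function.update_of_ne hj, Function.update_of_ne hj, hc]

variable [IsAlgClosed K]

theorem genLocus_nonempty {A : Over (Spec (CommRingCat.of K))} [GrpObj A] [IsProper A.hom]
    [GeometricallyIntegral A.hom] {L : A.left.Modules} (hL : PicF.IsInvertible L) (s : Coh.structureModule A.left ⟶ L)
    (hs : s ≠ 0) : (CohB1.genLocus L s : Set A.left).Nonempty := by
  haveI : IsIntegral A.left := GeometricallyIntegral.isIntegral_of_subsingleton A.hom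
  obtain ⟨x, hx⟩ := CubeLib.exists_gen_point hL (σ := sec s) fun h => hs <| by
    rw [← secHom_sec s, h, ← secHom_sec (L := L) 0]
    congr 1
  exact ⟨x, (mem_genLocus_iff hL).2 hx⟩

/-- Inverse images of an effective class pair non-negatively with an ample one. -/
theorem slot_effective_nonneg {B : Over (Spec (CommRingCat.of K))} [GrpObj B] [IsProper B.hom]
    [GeometricallyIntegral B.hom] {L : A.left.Modules} (hL : CohB1.IsAmple L) (i : Fin g) {M : B.left.Modules}
    (hM : PicF.IsInvertible M) (s : Coh.structureModule B.left ⟶ M) (hs : s ≠ 0) (f : A ⟶ B) :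
    0 ≤ slot hA (fun _ => cls hL.1) i (Additive.ofMul (pull f.left (cls hM))) := by
  have hne := genLocus_nonempty hM s hs
  have hT := isInvertible_tensor hM hM
  set T := slot hA (fun _ => cls hL.1) i with hTdef
  let G := (Scheme.Modules.pullback f.left).obj (CohB1.tensorMod M M)
  have hG : PicF.IsInvertible G := isInvertible_pullback f.left hT
  have hgen : ∀ x : A.left, ∃ (n : ℕ) (s' : Coh.structureModule A.left ⟶ CohB1.tensorPow G (n + 1)),
      x ∈ CohB1.genLocus _ s' := fun x => by
    obtain ⟨σ, hσ⟩ := AVLib.exists_mem_genLocus_sq B hM s hne (f.left x)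
    refine ⟨0, pullS f.left σ ≫ (unitL G).inv, ?_⟩
    rw [show (unitL G).inv = (unitL G).symm.hom from rfl, genLocus_comp_iso, genLocus_pullS _ hT]
    exact hσ
  have key : ∀ N : ℕ, ∃ (Q : A.left.Modules) (hQ : CohB1.IsAmple Q), cls hQ.1 = cls hL.1 * cls hG ^ N := by
    intro N
    induction N with
    | zero => exact ⟨L, hL, by rw [pow_zero, _root_.mul_one]⟩
    | succ N ih =>
      obtain ⟨Q, hQ, e⟩ := ih
      refine ⟨_, AmpleEmb.isAmple_tensor_of_semiAmple hQ hG hgen, ?_⟩
      rw [cls_tensor hQ.1 hG, e, pow_succ, _root_.mul_assoc]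
  have hpos : ∀ N : ℕ, 0 < T (Additive.ofMul (cls hL.1)) + N * T (Additive.ofMul (cls hG)) := fun N => by
    obtain ⟨Q, hQ, e⟩ := key N
    rw [← nsmul_eq_mul, ← map_nsmul, ← map_add, ← ofMul_pow, ← ofMul_mul, ← e, slot_apply]
    refine topA_pos_of_ample hA _ fun j => ?_
    rcases eq_or_ne j i with rfl | hj
    · rw [Function.update_self]; exact ⟨Q, hQ, rfl⟩
    · rw [Function.update_of_ne hj]; exact ⟨L, hL, rfl⟩
  have e2 : T (Additive.ofMul (cls hG)) = 2 * T (Additive.ofMul (pull f.left (cls hM))) := by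
    rw [show cls hG = pull f.left (cls hM) * pull f.left (cls hM) by
      rw [← map_mul, ← cls_tensor hM hM, pull_cls], ofMul_mul, map_add, two_mul]
  by_contra hneg
  have h := hpos (T (Additive.ofMul (cls hL.1))).toNat
  rw [e2] at h
  nlinarith [Int.self_le_toNat (T (Additive.ofMul (cls hL.1)))]

/-- An effective class whose product with its inverse image by inversion is trivial has no zeros. -/
theorem isIso_of_mul_inv_eq_one {M : A.left.Modules} (hM : PicF.IsInvertible M)
    (s : Coh.structureModule A.left ⟶ M) (hs : s ≠ 0) (h : cls hM * pull ((𝟙 A)⁻¹).left (cls hM) = 1) : IsIso s := by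
  haveI : IsIntegral A.left := GeometricallyIntegral.isIntegral_of_subsingleton A.hom
  have hne := genLocus_nonempty hM s hs
  have hi := isInvertible_pullback ((𝟙 A)⁻¹).left hM
  have hP := isInvertible_tensor hM hi
  rw [pull_cls _ hM, ← cls_tensor hM hi, cls_eq_one] at h
  obtain ⟨e⟩ := h
  haveI : IsIso ((𝟙 A)⁻¹ : A ⟶ A) := ⟨(𝟙 A)⁻¹, by rw [GrpObj.inv_comp, Category.id_comp, inv_inv],
    by rw [GrpObj.inv_comp, Category.id_comp, inv_inv]⟩
  haveI : IsIso ((𝟙 A)⁻¹ : A ⟶ A).left := inferInstanceAs (IsIso ((Over.forget _).map ((𝟙 A)⁻¹ : A ⟶ A)))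
  have hint : (CohB1.genLocus _ (tensorS s (pullS ((𝟙 A)⁻¹).left s)) : Set A.left).Nonempty := by
    rw [genLocus_tensorS hM hi, genLocus_pullS _ hM]
    exact nonempty_preirreducible_inter (CohB1.genLocus M s).2
      ((CohB1.genLocus M s).2.preimage ((𝟙 A)⁻¹).left.continuous) hne (hne.preimage ((𝟙 A)⁻¹).left.surjective)
  have htop := AVLib.genLocus_eq_top_of_iso A.hom e.symm _ hint
  rw [genLocus_tensorS hM hi] at htop
  exact GenMorph.isIso_of_genLocus_eq_top hM (eq_top_iff.2 (htop.ge.trans inf_le_left))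

end Groth.Agent.WeilAVLib
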