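import Groth.Agent.AVLib.Defect
import Groth.Agent.AVLib.Seesaw
import Groth.Agent.S1490
import Groth.Prelude.Def_Pic13

/-!
# A class algebraically equivalent to zero on an abelian variety is primitive
-/

set_option autoImplicit false
set_option backward.isDefEq.respectTransparency false
set_option linter.style.haveILetI false
set_option synthInstance.maxHeartbeats 400000
set_option maxHeartbeats 1000000

universe u

open CategoryTheory CategoryTheory.Limits MonoidalCategory CartesianMonoidalCategory MonObj AlgebraicGeometry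
open Groth.Agent.PicLib
open Groth.Agent.AVLib (pull_left_comp pull_one pull_defect defect)

noncomputable section

namespace Groth.Agent.WeilAVLib

variable {K : Type u} [Field K] [IsAlgClosed K]

/-- A slice over a rational point contains the fibre over its image. -/
theorem pull_fiberι_eq_one {V W : Over (Spec (CommRingCat.of K))} [LocallyOfFiniteType W.hom]
    (c : Pic (V ⊗ W).left) (w : 𝟙_ (Over (Spec (CommRingCat.of K))) ⟶ W)
    (h : pull (lift (𝟙 V) (toUnit V ≫ w)).left c = 1) :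
    pull ((snd V W).left.fiberι (w.left (IsLocalRing.closedPoint K))) c = 1 := by
  haveI : Subsingleton ↥(Spec (CommRingCat.of K)) := inferInstanceAs (Subsingleton (PrimeSpectrum K))
  haveI := LocallyOfFiniteType.jacobsonSpace W.hom
  set p := w.left (IsLocalRing.closedPoint K) with hp
  have hy : IsClosed ({p} : Set W.left) := (pointEquivClosedPoint W.hom ⟨w.left, Over.w w⟩).2
  have hwl : pointOfClosedPoint W.hom p hy = w.left :=
    congrArg Subtype.val ((pointEquivClosedPoint W.hom).symm_apply_apply ⟨w.left, Over.w w⟩)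
  let f := (snd V W).left
  have hw : (W.left.fromSpecResidueField p ≫ W.hom) ≫ w.left = W.left.fromSpecResidueField p := by
    rw [← hwl]
    show _ ≫ Spec.map _ ≫ _ = _
    rw [← SpecMap_residueFieldIsoBase_inv W.hom p hy, ← Spec.map_comp_assoc, Iso.hom_inv_id, Spec.map_id,
      Category.id_comp]
  let F : Over (Spec (CommRingCat.of K)) := Over.mk (f.fiberι p ≫ (V ⊗ W).hom)
  let j : F ⟶ V ⊗ W := Over.homMk (f.fiberι p) rfl
  have e : j = (j ≫ fst V W) ≫ lift (𝟙 V) (toUnit V ≫ w) := by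
    refine CartesianMonoidalCategory.hom_ext _ _ ?_ ?_
    · rw [Category.assoc, lift_fst, Category.comp_id]
    · rw [Category.assoc, lift_snd, ← Category.assoc, toUnit_unique ((j ≫ fst V W) ≫ toUnit V) (toUnit F)]
      ext1
      show f.fiberι p ≫ f = F.hom ≫ w.left
      have h : f.fiberι p ≫ f = f.fiberToSpecResidueField p ≫ W.left.fromSpecResidueField p := pullback.condition
      rw [h, show F.hom = f.fiberι p ≫ f ≫ W.hom from by rw [show f ≫ W.hom = _ from Over.w (snd V W)]; rfl,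
        ← Category.assoc (f.fiberι p), h, Category.assoc, Category.assoc]
      rw [← Category.assoc (W.left.fromSpecResidueField p), hw]
  have e' : f.fiberι p = (j ≫ fst V W).left ≫ (lift (𝟙 V) (toUnit V ≫ w)).left := congrArg CommaMorphism.left e
  show pull (f.fiberι p) c = 1
  rw [e', pull_comp, h, map_one]

/-- The theorem of the cube with a connected base. -/
theorem eq_one_of_cube {V V' W : Over (Spec (CommRingCat.of K))} [IsProper V.hom] [GeometricallyIntegral V.hom]
    [IsProper V'.hom] [GeometricallyIntegral V'.hom] [LocallyOfFiniteType W.hom] [ConnectedSpace W.left]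
    (v : 𝟙_ (Over (Spec (CommRingCat.of K))) ⟶ V) (v' : 𝟙_ (Over (Spec (CommRingCat.of K))) ⟶ V')
    (w : 𝟙_ (Over (Spec (CommRingCat.of K))) ⟶ W) (c : Pic ((V ⊗ V') ⊗ W).left)
    (h1 : pull (lift (lift (toUnit (V' ⊗ W) ≫ v) (fst V' W)) (snd V' W)).left c = 1)
    (h2 : pull (lift (lift (fst V W) (toUnit (V ⊗ W) ≫ v')) (snd V W)).left c = 1)
    (h3 : pull (lift (𝟙 (V ⊗ V')) (toUnit (V ⊗ V') ≫ w)).left c = 1) : c = 1 := by
  obtain ⟨L, hL, rfl⟩ := exists_cls c
  have hf := pull_fiberι_eq_one (cls hL) w h3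
  rw [pull_cls, cls_eq_one] at hf
  have tr : ∀ {Z Z' : Scheme.{u}} (s : Z' ⟶ ((V ⊗ V') ⊗ W).left) (e : Z ⟶ Z') (s' : Z ⟶ ((V ⊗ V') ⊗ W).left),
      e ≫ s = s' → pull s (cls hL) = 1 → Nonempty ((Scheme.Modules.pullback s').obj L ≅ Coh.structureModule Z) :=
    fun s e s' he hs => by
      have := congrArg (pull e) hs
      rw [← pull_comp, he, map_one, pull_cls, cls_eq_one] at this
      exact this
  rw [cls_eq_one]
  have hv : v.left ≫ V.hom = 𝟙 _ := Over.w v
  have hv' : v'.left ≫ V'.hom = 𝟙 _ := Over.w v'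
  refine S1490.result V.hom V'.hom W.hom v.left hv v'.left hv' L hL ?_ ?_ ⟨_, hf⟩
  · refine tr _ (pullback.map _ _ V'.hom W.hom (𝟙 _) (𝟙 _) (𝟙 _) ?_ (by simp)) _ ?_ h1
    · simp [hv]
    · refine pullback.hom_ext (pullback.hom_ext ?_ ?_) ?_ <;> simp [hv]
      all_goals first
        | (rw [← pullback.condition_assoc]; simp [hv])
        | (rw [pullback.condition_assoc]; simp [hv])
  · refine tr _ (pullback.map _ _ V.hom W.hom (𝟙 _) (𝟙 _) (𝟙 _) ?_ (by simp)) _ ?_ h2
    · rw [Category.comp_id, pullback.lift_fst_assoc]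
    · refine pullback.hom_ext (pullback.hom_ext ?_ ?_) ?_ <;> simp [hv']
      all_goals first
        | (rw [← pullback.condition_assoc]; simp [hv'])
        | (rw [pullback.condition_assoc]; simp [hv'])
        | exact Category.id_comp _

theorem defect_eq_one_of_isAlgEquivZero {A : Over (Spec (CommRingCat.of K))} [GrpObj A] [IsCommMonObj A]
    [IsProper A.hom] [GeometricallyIntegral A.hom]
    {L : A.left.Modules} (hL : PicF.IsInvertible L)
    (h : @Pic13.IsAlgEquivZero K _ A.left ⟨A.hom⟩ L) {S : Over (Spec (CommRingCat.of K))} (f g : S ⟶ A) :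
    defect (cls hL) f g = 1 := by
  letI : A.left.Over (Spec (CommRingCat.of K)) := ⟨A.hom⟩
  obtain ⟨T₀, q, hc, hlft, -, M, hM, t, t₀, ht, ht₀, ⟨et⟩, ⟨et₀⟩⟩ := h
  let T : Over (Spec (CommRingCat.of K)) := Over.mk q
  haveI : ConnectedSpace T.left := hc
  haveI : LocallyOfFiniteType T.hom := hlft
  let w : 𝟙_ (Over (Spec (CommRingCat.of K))) ⟶ T := Over.homMk t ht
  let w₀ : 𝟙_ (Over (Spec (CommRingCat.of K))) ⟶ T := Over.homMk t₀ ht₀
  let m : Pic (A ⊗ T).left := cls (L := M) hM
  let Φ : ∀ {U : Over (Spec (CommRingCat.of K))}, (U ⟶ A) → (U ⟶ T) → Pic U.left :=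
    fun {U} a τ => pull (lift a τ).left m
  have hΦ : ∀ {U U' : Over (Spec (CommRingCat.of K))} (s : U' ⟶ U) (a : U ⟶ A) (τ : U ⟶ T),
      pull s.left (Φ a τ) = Φ (s ≫ a) (s ≫ τ) := fun {U U'} s a τ => by
    show pull s.left (pull (lift a τ).left m) = pull (lift (s ≫ a) (s ≫ τ)).left m
    rw [← pull_comp, ← Over.comp_left, comp_lift]
  let p : (A ⊗ A) ⊗ T ⟶ A := fst (A ⊗ A) T ≫ fst A A
  let r : (A ⊗ A) ⊗ T ⟶ A := fst (A ⊗ A) T ≫ snd A A
  let τ : (A ⊗ A) ⊗ T ⟶ T := snd (A ⊗ A) T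
  let Θ : Pic ((A ⊗ A) ⊗ T).left := Φ (p * r) τ * Φ 1 τ / (Φ p τ * Φ r τ)
  have key : ∀ {U : Over (Spec (CommRingCat.of K))} (s : U ⟶ (A ⊗ A) ⊗ T), pull s.left Θ =
      Φ ((s ≫ p) * (s ≫ r)) (s ≫ τ) * Φ 1 (s ≫ τ) / (Φ (s ≫ p) (s ≫ τ) * Φ (s ≫ r) (s ≫ τ)) := fun {U} s => by
    simp only [Θ, map_div, map_mul, hΦ, MonObj.comp_mul, MonObj.comp_one]
  -- the slice at a point of the base
  have hs : ∀ (x : 𝟙_ (Over (Spec (CommRingCat.of K))) ⟶ T) (ht' : x.left ≫ q = 𝟙 _)
      {U : Over (Spec (CommRingCat.of K))} (a : U ⟶ A),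
      Φ a (toUnit U ≫ x) = pull a.left (pull (lift (𝟙 A) (toUnit A ≫ x)).left m) := fun x _ {U} a => by
    rw [← pull_comp, ← Over.comp_left, comp_lift, Category.comp_id, ← Category.assoc,
      toUnit_unique (a ≫ toUnit A) (toUnit U)]
  have hw : pull (lift (𝟙 A) (toUnit A ≫ w)).left m = cls hL := by
    refine (pull_cls _ hM).trans ?_
    rw [cls_eq_cls]
    exact ⟨et⟩
  have hw₀ : pull (lift (𝟙 A) (toUnit A ≫ w₀)).left m = 1 := by
    refine (pull_cls _ hM).trans ?_
    rw [cls_eq_one]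
    exact ⟨et₀⟩
  have h0 : Θ = 1 := by
    refine eq_one_of_cube η[A] η[A] w₀ Θ ?_ ?_ ?_
    · rw [key]
      simp only [p, r, τ, lift_fst_assoc, lift_fst, lift_snd, ← Hom.one_def, _root_.one_mul]
      exact div_eq_one.2 (mul_comm _ _)
    · rw [key]
      simp only [p, r, τ, lift_fst_assoc, lift_fst, lift_snd, ← Hom.one_def, _root_.mul_one]
      exact div_self' _
    · rw [key]
      simp only [p, r, τ, lift_fst_assoc, lift_snd, Category.id_comp, hs w₀ ht₀, hw₀, map_one, _root_.mul_one, div_one]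
  have h1 := key (lift (lift f g) (toUnit S ≫ w))
  rw [h0, map_one] at h1
  simp only [p, r, τ, lift_fst_assoc, lift_snd, lift_fst, hs w ht, hw, pull_one, _root_.mul_one] at h1
  exact h1.symm

end Groth.Agent.WeilAVLib
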