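import Groth.Agent.AVPtsLib.BC
import Groth.Agent.AVPtsLib.Dense
import Groth.Agent.RatDenseLib.Group
import Groth.Agent.AVLib.Etale
import Mathlib.RingTheory.Filtration

/-!
# The `p`-power torsion is scheme-theoretically dense
-/

set_option autoImplicit false
set_option backward.isDefEq.respectTransparency false
set_option linter.style.haveILetI false
set_option synthInstance.maxHeartbeats 400000
set_option maxHeartbeats 1000000

universe u

open CategoryTheory CategoryTheory.Limits MonoidalCategory CartesianMonoidalCategory MonObj AlgebraicGeometry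
open Groth.Agent.AVPtsLib (bcMap bcObj)
open Groth.Agent.GrpSchLib (spO spMap)

noncomputable section

namespace Groth.Agent.WeilAVLib

variable {k : Type u} [Field k]

theorem dense_torsion [IsAlgClosed k] (A : Over (Spec (CommRingCat.of k))) [GrpObj A] [IsCommMonObj A]
    [IsProper A.hom] [GeometricallyIntegral A.hom] (l : ℕ) [Fact l.Prime] (hl : (l : k) ≠ 0) :
    Dense (⋃ (n : ℕ) (a : 𝟙_ (Over (Spec (CommRingCat.of k))) ⟶ A) (_ : a ^ l ^ n = 1), Set.range a.left.base) := by
  let S : Subgroup (𝟙_ (Over (Spec (CommRingCat.of k))) ⟶ A) :=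
    { carrier := {y | ∃ n : ℕ, y ^ l ^ n = 1}
      one_mem' := ⟨0, one_pow _⟩
      mul_mem' := by
        rintro a b ⟨n, hn⟩ ⟨m, hm⟩
        refine ⟨n + m, ?_⟩
        rw [_root_.mul_pow, pow_add]
        nth_rewrite 2 [_root_.mul_comm (l ^ n)]
        rw [pow_mul, pow_mul, hn, hm, one_pow, one_pow, _root_.mul_one]
      inv_mem' := by
        rintro a ⟨n, hn⟩
        exact ⟨n, by rw [inv_pow, hn, inv_one]⟩ }
  obtain ⟨H, hH, i, hi, hc, -, hr⟩ := RatDenseLib.exists_closure_subgroup A S
  letI := hH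
  haveI := hi
  haveI := hc
  haveI := RatDenseLib.isReduced_unit (k := k)
  have hs := AVPtsLib.surjective_of_torsion l hl i fun n y hy => by
    refine RatDenseLib.exists_lift i y ?_
    rw [RatDenseLib.range_unit, Set.singleton_subset_iff, hr]
    exact subset_closure ⟨y, ⟨n, hy⟩, rfl⟩
  have hu : closure (RatDenseLib.pt '' (S : Set (𝟙_ (Over (Spec (CommRingCat.of k))) ⟶ A))) = Set.univ := by
    rw [← hr, hs.surj.range_eq]
  refine (dense_iff_closure_eq.2 hu).mono ?_
  rintro _ ⟨y, ⟨n, hy⟩, rfl⟩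
  exact Set.mem_iUnion.2 ⟨n, Set.mem_iUnion.2 ⟨y, Set.mem_iUnion.2 ⟨hy, ⟨_, rfl⟩⟩⟩⟩

section Char

variable {G : Over (Spec (CommRingCat.of k))} [GrpObj G] {A : Type u} [CommRing A] [Algebra k A]
  (jA : spO k A ⟶ G) [IsOpenImmersion jA.left] (e : A →ₐ[k] k)
  (he : spMap e ≫ jA = (1 : spO k k ⟶ G))

/-- Infinitesimal neighbourhoods of the unit. -/
abbrev nb (e : A →ₐ[k] k) (N : ℕ) : Type u := A ⧸ (RingHom.ker e ^ N)

include he in
/-- Everything infinitesimally close to the unit lies in the chart. -/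
theorem exists_lift_nb (N : ℕ) (w : spO k (nb e N) ⟶ G) (hw : ∀ p, w.left p ∈ Set.range jA.left) :
    ∃ h : A →ₐ[k] nb e N, spMap h ≫ jA = w := by
  obtain ⟨g, hg⟩ := GrpSchLib.exists_spMap (Over.homMk (IsOpenImmersion.lift jA.left w.left (by
    rintro _ ⟨p, rfl⟩; exact hw p)) (by
    rw [show (spO k A).hom = jA.left ≫ G.hom from (Over.w jA).symm, IsOpenImmersion.lift_fac_assoc]
    exact Over.w w) : spO k (nb e N) ⟶ spO k A)
  exact ⟨g, by rw [hg]; ext1; exact IsOpenImmersion.lift_fac _ _ _⟩

include he in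
/-- The neighbourhoods of the unit are killed by powers of the characteristic. -/
theorem nb_pow_eq_one [IsCommMonObj G] (p : ℕ) (hp : (p : k) = 0) (N m : ℕ) (h2 : 2 ≤ N) (hN : N ≤ 2 ^ m) :
    (spMap (Ideal.Quotient.mkₐ k (RingHom.ker e ^ N)) ≫ jA) ^ p ^ m = 1 := by
  haveI : Mono jA := (Over.forget _).mono_of_mono_map (show Mono jA.left from inferInstance)
  set I := RingHom.ker e with hI
  set s := spMap (Ideal.Quotient.mkₐ k (I ^ N)) ≫ jA with hs
  have hN0 : 0 < N := by omega
  -- the reduction to the closed point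
  have hIN : I ^ N ≤ I := Ideal.pow_le_self hN0.ne'
  let ρ : nb e N →ₐ[k] k := Ideal.Quotient.liftₐ (I ^ N) e (fun a ha => hIN ha)
  have hρ : ρ.comp (Ideal.Quotient.mkₐ k (I ^ N)) = e := AlgHom.ext fun a => rfl
  have hsurj : Function.Surjective (spMap ρ).left := by
    intro q
    have hs' : Function.Surjective ρ.toRingHom := fun c => ⟨algebraMap k _ c, ρ.commutes c⟩
    have hq : q ∈ Set.range (PrimeSpectrum.comap ρ.toRingHom) := by
      rw [range_comap_of_surjective _ _ hs']
      intro y hy
      obtain ⟨a, rfl⟩ := Ideal.Quotient.mk_surjective y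
      have ha : a ∈ I := hy
      refine q.isPrime.mem_of_pow_mem N ?_
      rw [← map_pow, Ideal.Quotient.eq_zero_iff_mem.2 (Ideal.pow_mem_pow ha N)]
      exact zero_mem _
    exact hq
  have hpt : ∀ j : ℕ, ∀ q, (s ^ j).left q ∈ Set.range jA.left := by
    intro j q
    obtain ⟨q, rfl⟩ := hsurj q
    have h1 : spMap ρ ≫ s ^ j = spMap e ≫ jA := by
      rw [MonObj.comp_pow, hs, ← Category.assoc, ← GrpSchLib.spMap_comp, hρ, he, one_pow]
    exact ⟨(spMap e).left q, (congrArg (fun f : spO k k ⟶ G => f.left q) h1).symm⟩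
  have hconst : spMap ((Algebra.ofId k (nb e N)).comp e) ≫ jA = 1 := by
    rw [GrpSchLib.spMap_comp, Category.assoc, he, MonObj.comp_one]
  -- tangent vectors
  have key : ∀ g : A →ₐ[k] nb e N, spMap g ≫ jA = s ^ p → ∀ a ∈ I, g a ∈ (I ^ 2).map (Ideal.Quotient.mk (I ^ N)) := by
    intro g hg a ha
    obtain ⟨b, hb⟩ := Ideal.Quotient.mk_surjective (g a)
    rw [← hb]
    refine Ideal.mem_map_of_mem _ ?_
    by_contra hb2
    let W : Submodule k A := Submodule.span k {1} ⊔ (I ^ 2).restrictScalars k
    have hbI : b ∈ I := by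
      have h := congrArg ρ hb
      have h' : ρ (g a) = e a := by
        have hh : spMap ρ ≫ (spMap g ≫ jA) = spMap e ≫ jA := by
          rw [hg, MonObj.comp_pow, hs, ← Category.assoc, ← GrpSchLib.spMap_comp, hρ, he, one_pow]
        rw [← Category.assoc, ← GrpSchLib.spMap_comp, cancel_mono] at hh
        exact AlgHom.congr_fun (GrpSchLib.spMap_injective hh) a
      rw [h', show e a = 0 from ha] at h
      exact h
    have hbW : b ∉ W := by
      intro h
      obtain ⟨c, hc, d, hd, hcd⟩ := Submodule.mem_sup.1 h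
      obtain ⟨c, rfl⟩ := Submodule.mem_span_singleton.1 hc
      have hdI : e d = 0 := Ideal.pow_le_self two_ne_zero hd
      have hc0 : c = 0 := by
        have := congrArg e hcd
        rw [map_add, map_smul, map_one, hdI, add_zero, show e b = 0 from hbI] at this
        simpa using this
      rw [hc0, zero_smul, zero_add] at hcd
      exact hb2 (hcd ▸ hd)
    obtain ⟨v, hvb, hvW⟩ := Submodule.exists_dual_map_eq_bot_of_notMem hbW inferInstance
    have hv0 : ∀ w ∈ W, v w = 0 := fun w hw => by
      have : v w ∈ W.map v := Submodule.mem_map_of_mem hw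
      rwa [hvW, Submodule.mem_bot] at this
    have hv1 : v 1 = 0 := hv0 _ (Submodule.mem_sup_left (Submodule.mem_span_singleton_self _))
    have hv : ∀ x y, v (x * y) = e x * v y + e y * v x := fun x y => by
      have hmem : (x - algebraMap k A (e x)) * (y - algebraMap k A (e y)) ∈ I ^ 2 := by
        rw [pow_two]
        refine Ideal.mul_mem_mul ?_ ?_ <;> simp [hI, RingHom.mem_ker]
      have h0 := hv0 _ (Submodule.mem_sup_right
        (show (x - algebraMap k A (e x)) * (y - algebraMap k A (e y)) ∈ (I ^ 2).restrictScalars k from hmem))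
      have hexp : (x - algebraMap k A (e x)) * (y - algebraMap k A (e y)) =
          x * y - e x • y - e y • x + (e x * e y) • (1 : A) := by
        simp only [Algebra.smul_def, map_mul]; ring
      rw [hexp] at h0
      simp only [map_add, map_sub, map_smul, hv1, smul_zero, add_zero, smul_eq_mul] at h0
      linear_combination h0
    let vp : A →ₐ[k] DualNumber k :=
      { toFun := fun a => TrivSqZeroExt.inl (e a) + TrivSqZeroExt.inr (v a)
        map_one' := by ext <;> simp [hv1]
        map_zero' := by ext <;> simp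
        map_add' := fun a b => by ext <;> simp [map_add]
        map_mul' := fun a b => by ext <;> simp [hv, mul_comm]
        commutes' := fun c => by
          have : v (algebraMap k A c) = 0 := by rw [Algebra.algebraMap_eq_smul_one, map_smul, hv1, smul_zero]
          ext <;> simp [this, TrivSqZeroExt.algebraMap_eq_inl'] }
    let vq : nb e N →ₐ[k] DualNumber k := Ideal.Quotient.liftₐ (I ^ N) vp (fun x hx => by
      have hx2 : x ∈ I ^ 2 := Ideal.pow_le_pow_right h2 hx
      have hx1 : e x = 0 := Ideal.pow_le_self two_ne_zero hx2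
      show TrivSqZeroExt.inl (e x) + TrivSqZeroExt.inr (v x) = 0
      rw [hx1, hv0 x (Submodule.mem_sup_right hx2)]
      simp)
    have hT : spMap (TrivSqZeroExt.fstHom k k k) ≫ (spMap vp ≫ jA) = 1 := by
      rw [← Category.assoc, ← GrpSchLib.spMap_comp,
        show (TrivSqZeroExt.fstHom k k k).comp vp = e from AlgHom.ext fun a => by simp [vp], he]
    have hk := AVLib.pow_eq_one_of_natCast jA e he (spMap vp ≫ jA) hT p hp
    have h2' : spMap ((Algebra.ofId k (DualNumber k)).comp e) ≫ jA = 1 := by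
      rw [GrpSchLib.spMap_comp, Category.assoc, he, MonObj.comp_one]
    have h3 : spMap (vq.comp g) ≫ jA = 1 := by
      rw [GrpSchLib.spMap_comp, Category.assoc, hg, MonObj.comp_pow, hs, ← Category.assoc, ← GrpSchLib.spMap_comp]
      exact hk
    have h4 := AlgHom.congr_fun (GrpSchLib.spMap_injective ((cancel_mono jA).1 (h3.trans h2'.symm))) a
    rw [AlgHom.comp_apply, ← hb] at h4
    have h5 := congrArg TrivSqZeroExt.snd h4
    change TrivSqZeroExt.snd (TrivSqZeroExt.inl (e b) + TrivSqZeroExt.inr (v b)) = _ at h5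
    simp [Algebra.ofId_apply, TrivSqZeroExt.algebraMap_eq_inl] at h5
    exact hvb h5
  -- iteration
  have hiter : ∀ j : ℕ, ∃ h : A →ₐ[k] nb e N, spMap h ≫ jA = s ^ p ^ j ∧
      ∀ a ∈ I, h a ∈ (I ^ 2 ^ j).map (Ideal.Quotient.mk (I ^ N)) := by
    obtain ⟨g, hg⟩ := exists_lift_nb jA e he N _ (hpt p)
    intro j
    induction j with
    | zero => exact ⟨Ideal.Quotient.mkₐ k (I ^ N), by rw [pow_zero, pow_one], fun a ha => by
        rw [pow_zero, pow_one]; exact Ideal.mem_map_of_mem _ ha⟩
    | succ j ih =>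
      obtain ⟨h, hh, hhI⟩ := ih
      have hker : ∀ x ∈ I ^ N, h x = 0 := by
        intro x hx
        have h1 : h x ∈ (Ideal.map (h : A →+* nb e N) I) ^ N := by
          rw [← Ideal.map_pow]; exact Ideal.mem_map_of_mem _ hx
        have h2 : Ideal.map (h : A →+* nb e N) I ≤ I.map (Ideal.Quotient.mk (I ^ N)) :=
          Ideal.map_le_iff_le_comap.2 fun a ha => Ideal.map_mono (Ideal.pow_le_self (by positivity)) (hhI a ha)
        have h3 := Ideal.pow_right_mono h2 N h1
        rw [← Ideal.map_pow, Ideal.map_quotient_self, Ideal.mem_bot] at h3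
        exact h3
      let hb : nb e N →ₐ[k] nb e N := Ideal.Quotient.liftₐ (I ^ N) h hker
      refine ⟨hb.comp g, ?_, fun a ha => ?_⟩
      · rw [GrpSchLib.spMap_comp, Category.assoc, hg, MonObj.comp_pow, hs, ← Category.assoc, ← GrpSchLib.spMap_comp,
          show hb.comp (Ideal.Quotient.mkₐ k (I ^ N)) = h from AlgHom.ext fun _ => rfl, hh, ← pow_mul, ← pow_succ]
      · obtain ⟨b, hb2, hbeq⟩ := (Ideal.mem_map_iff_of_surjective _ Ideal.Quotient.mk_surjective).1 (key g hg a ha)
        rw [AlgHom.comp_apply, ← hbeq]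
        show h b ∈ _
        have h1 : h b ∈ (Ideal.map (h : A →+* nb e N) I) ^ 2 := by
          rw [← Ideal.map_pow]; exact Ideal.mem_map_of_mem _ hb2
        have h2 : Ideal.map (h : A →+* nb e N) I ≤ (I ^ 2 ^ j).map (Ideal.Quotient.mk (I ^ N)) :=
          Ideal.map_le_iff_le_comap.2 hhI
        have h3 := Ideal.pow_right_mono h2 2 h1
        rw [← Ideal.map_pow, ← pow_mul, ← pow_succ] at h3
        exact h3
  obtain ⟨h, hh, hhI⟩ := hiter m
  rw [← hh, ← hconst]
  congr 2
  refine AlgHom.ext fun a => ?_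
  have h0 : ∀ x ∈ I, h x = 0 := fun x hx => by
    have h1 := Ideal.map_mono (f := Ideal.Quotient.mk (I ^ N)) (Ideal.pow_le_pow_right hN) (hhI x hx)
    rw [Ideal.map_quotient_self, Ideal.mem_bot] at h1
    exact h1
  have h2 := h0 (a - algebraMap k A (e a)) (by simp [hI, RingHom.mem_ker])
  rw [map_sub, AlgHom.commutes, sub_eq_zero] at h2
  exact h2

end Char

variable (X : Over (Spec (CommRingCat.of k))) [GrpObj X] [IsProper X.hom] [GeometricallyIntegral X.hom]

theorem isIso_of_kernels (p : ℕ) (hp : p.Prime) {Z : Scheme.{u}} (c : Z ⟶ X.left) [IsClosedImmersion c]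
    (hc : ∀ m : ℕ, 0 < m →
      ∃ t : pullback η[X].left ((𝟙 X ^ (p ^ m)).left) ⟶ Z,
        t ≫ c = pullback.snd η[X].left ((𝟙 X ^ (p ^ m)).left)) :
    IsIso c := by
  haveI : IsCommMonObj X := isCommMonObj_of_isProper_of_geometricallyIntegral X
  haveI : IsIntegral X.left := GeometricallyIntegral.isIntegral_of_subsingleton X.hom
  haveI : LocallyOfFiniteType X.hom := inferInstance
  -- a point killed by a power of `p` factors through `c`
  have hfac : ∀ (T : Over (Spec (CommRingCat.of k))) (s : T ⟶ X) (m : ℕ), 0 < m → s ^ p ^ m = 1 →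
      ∃ t : T.left ⟶ Z, t ≫ c = s.left := by
    intro T s m hm hs
    obtain ⟨t, ht⟩ := hc m hm
    have hw : (toUnit T).left ≫ η[X].left = s.left ≫ ((𝟙 X ^ (p ^ m)).left) := by
      rw [← Over.comp_left, ← Over.comp_left, MonObj.comp_pow, Category.comp_id, hs, Hom.one_def]
    exact ⟨pullback.lift _ _ hw ≫ t, by rw [Category.assoc, ht, pullback.lift_snd]⟩
  suffices hsurj : Surjective c by exact isIso_of_isClosedImmersion_of_surjective c
  by_cases hpk : (p : k) = 0
  · let x₀ : X.left := (MonObj.one (X := X)).left (IsLocalRing.closedPoint k)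
    obtain ⟨U, hU, hx, -⟩ := X.left.isBasis_affineOpens.exists_subset_of_mem_open (Set.mem_univ x₀) isOpen_univ
    obtain ⟨U, hUaff, rfl⟩ := hU
    have hUaff : IsAffineOpen U := hUaff
    let A : Type u := Γ(X.left, U)
    let φ : CommRingCat.of k ⟶ Γ(X.left, U) := Spec.preimage (hUaff.fromSpec ≫ X.hom)
    letI : Algebra k A := φ.hom.toAlgebra
    have hw : hUaff.fromSpec ≫ X.hom = Spec.map (CommRingCat.ofHom (algebraMap k A)) := by
      rw [← Spec.map_preimage (hUaff.fromSpec ≫ X.hom)]
      rfl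
    let jA : spO k A ⟶ X := Over.homMk hUaff.fromSpec hw
    haveI : IsOpenImmersion jA.left := inferInstanceAs (IsOpenImmersion hUaff.fromSpec)
    let u : spO k k ⟶ X := 1
    have hupt : ∀ p, u.left p = x₀ := fun p => by
      show (toUnit (spO k k) ≫ MonObj.one (X := X)).left p = _
      exact congrArg (MonObj.one (X := X)).left
        (@Subsingleton.elim _ (inferInstanceAs (Subsingleton (PrimeSpectrum k))) _ _)
    have hru : Set.range u.left ⊆ Set.range jA.left := by
      rintro _ ⟨p, rfl⟩
      show _ ∈ Set.range hUaff.fromSpec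
      rw [hUaff.range_fromSpec, hupt]
      exact hx
    obtain ⟨e, he'⟩ := GrpSchLib.exists_spMap (Over.homMk (IsOpenImmersion.lift jA.left u.left hru) (by
      rw [show (spO k A).hom = jA.left ≫ X.hom from (Over.w jA).symm, IsOpenImmersion.lift_fac_assoc]
      exact Over.w u) : spO k k ⟶ spO k A)
    have he : spMap e ≫ jA = 1 := by
      rw [he']; ext1; exact IsOpenImmersion.lift_fac _ _ _
    haveI : LocallyOfFiniteType (hUaff.fromSpec ≫ X.hom) :=
      MorphismProperty.comp_mem @LocallyOfFiniteType _ _ inferInstance inferInstance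
    haveI : Algebra.FiniteType k A := by
      have h : LocallyOfFiniteType (Spec.map (CommRingCat.ofHom (algebraMap k A))) := hw ▸ inferInstance
      exact RingHom.finiteType_algebraMap.mp ((HasRingHomProperty.Spec_iff (P := @LocallyOfFiniteType)).mp h)
    haveI : IsNoetherianRing A := Algebra.FiniteType.isNoetherianRing k A
    haveI : Nonempty U := ⟨⟨x₀, hx⟩⟩
    haveI : IsDomain A := inferInstanceAs (IsDomain Γ(X.left, U))
    have hVaff : IsAffineOpen (c ⁻¹ᵁ U) := hUaff.preimage c
    -- the kernel of the restriction vanishes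
    have hker : RingHom.ker (c.app U).hom = ⊥ := by
      have hI : RingHom.ker (e : A →+* k) ≠ ⊤ := RingHom.ker_ne_top _
      refine le_bot_iff.1 ((le_iInf fun N => ?_).trans (Ideal.iInf_pow_eq_bot_of_isDomain _ hI).le)
      refine le_trans ?_ (Ideal.pow_le_pow_right (show N ≤ 2 ^ (N + 1) from
        (Nat.le_succ N).trans (Nat.lt_two_pow_self).le))
      intro a ha
      have hkill := nb_pow_eq_one jA e he p hpk (2 ^ (N + 1)) (N + 1)
        (Nat.le_self_pow (Nat.succ_ne_zero N) 2) le_rfl
      obtain ⟨t, ht⟩ := hfac _ _ (N + 1) (Nat.succ_pos N) hkill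
      let q := Ideal.Quotient.mkₐ k (RingHom.ker e ^ 2 ^ (N + 1))
      have hts : t ≫ c = Spec.map (CommRingCat.ofHom q.toRingHom) ≫ hUaff.fromSpec := ht
      have hrange : Set.range t ⊆ Set.range hVaff.fromSpec := by
        rintro _ ⟨z, rfl⟩
        rw [hVaff.range_fromSpec]
        show c (t z) ∈ U
        rw [← Scheme.Hom.comp_apply, hts, Scheme.Hom.comp_apply]
        exact (Set.ext_iff.1 hUaff.range_fromSpec _).1 ⟨_, rfl⟩
      obtain ⟨ψ, hψ⟩ := Spec.map_surjective (IsOpenImmersion.lift hVaff.fromSpec t hrange)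
      have hq : CommRingCat.ofHom q.toRingHom = c.app U ≫ ψ := by
        apply Spec.map_injective
        rw [← cancel_mono hUaff.fromSpec, ← hts, Spec.map_comp, Category.assoc, Scheme.Hom.app_eq_appLE,
          hUaff.SpecMap_appLE_fromSpec c hVaff, hψ, IsOpenImmersion.lift_fac_assoc]
      refine Ideal.Quotient.eq_zero_iff_mem.1 ?_
      show q.toRingHom a = 0
      rw [show q.toRingHom a = ψ.hom ((c.app U).hom a) from congr($(hq).hom a), RingHom.mem_ker.1 ha, map_zero]
    -- the range contains a nonempty open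
    have hbij : Function.Bijective (c.app U).hom :=
      ⟨(RingHom.injective_iff_ker_eq_bot _).2 hker, c.app_surjective U hUaff⟩
    haveI : IsIso (c.app U) := (ConcreteCategory.isIso_iff_bijective _).2 hbij
    have hsub : (U : Set X.left) ⊆ Set.range c := by
      intro x hxU
      obtain ⟨z, rfl⟩ : x ∈ Set.range hUaff.fromSpec := hUaff.range_fromSpec ▸ hxU
      have h1 := hUaff.SpecMap_appLE_fromSpec c hVaff (le_refl _)
      rw [← Scheme.Hom.app_eq_appLE] at h1
      obtain ⟨w, rfl⟩ : ∃ w, Spec.map (c.app U) w = z := (Spec.map (c.app U)).homeomorph.surjective z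
      exact ⟨hVaff.fromSpec w, by rw [← Scheme.Hom.comp_apply, ← h1, Scheme.Hom.comp_apply]⟩
    refine ⟨fun y => ?_⟩
    have hd : closure (U : Set X.left) = Set.univ := (IsOpen.dense U.2 ⟨x₀, hx⟩).closure_eq
    have : y ∈ Set.range c := closure_minimal hsub c.isClosedEmbedding.isClosed_range (hd ▸ Set.mem_univ y)
    exact this
  · let K := AlgebraicClosure k
    haveI : Fact p.Prime := ⟨hp⟩
    have hpK : (p : K) ≠ 0 := by
      rw [← map_natCast (algebraMap k K), ne_eq, map_eq_zero]
      exact hpk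
    have hd := dense_torsion (bcObj K X) p hpK
    haveI : Surjective (bcMap (k := k) K) :=
      ⟨fun x => ⟨IsLocalRing.closedPoint K, Subsingleton.elim (α := PrimeSpectrum k) _ _⟩⟩
    haveI : Surjective (pullback.fst X.hom (bcMap K)) := inferInstance
    have hd' := (pullback.fst X.hom (bcMap K)).surjective.denseRange.dense_image
      (pullback.fst X.hom (bcMap K)).continuous hd
    refine ⟨fun y => ?_⟩
    refine closure_minimal ?_ c.isClosedEmbedding.isClosed_range (hd'.closure_eq ▸ Set.mem_univ y)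
    rintro _ ⟨x, hx, rfl⟩
    simp only [Set.mem_iUnion] at hx
    obtain ⟨n, a, ha, z, rfl⟩ := hx
    have ha' : a ^ p ^ (n + 1) = 1 := by rw [pow_succ, pow_mul, ha, one_pow]
    let a' := (AVPtsLib.ptsEquiv (A := X) K).symm a
    obtain ⟨t, ht⟩ := hfac _ a' (n + 1) (Nat.succ_pos n) (by rw [← map_pow, ha', map_one])
    refine ⟨t z, ?_⟩
    rw [← Scheme.Hom.comp_apply, ht]
    have h1 : a.left ≫ pullback.fst X.hom (bcMap K) = a'.left := by
      show _ = ((AVPtsLib.ptsEquiv (A := X) K).symm a).left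
      simp [AVPtsLib.ptsEquiv, AVPtsLib.unitIso, Adjunction.homEquiv_counit]
    rw [← h1]
    rfl

end Groth.Agent.WeilAVLib
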