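import Mathlib
import Groth.Agent.WeilAVLib.RedTr

/-!
# The dimension of the centralizer of a semisimple endomorphism depends only on its characteristic polynomial
-/

set_option autoImplicit false
set_option linter.style.haveILetI false
set_option maxHeartbeats 1000000
set_option synthInstance.maxHeartbeats 200000

universe u v

open Polynomial (X C)

noncomputable section

namespace Groth.Agent.WeilAVLib

variable {F : Type u} [Field F] [CharZero F] {V : Type v} [AddCommGroup V] [Module F V] [Module.Finite F V]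

/-- The commutator with an endomorphism. -/
def adj (f : Module.End F V) : Module.End F (Module.End F V) := LinearMap.mulRight F f - LinearMap.mulLeft F f

/-- The power sums of the roots of a rational polynomial. -/
def powTr (P : Polynomial ℚ) (hP : P.Monic) (j : ℕ) : ℚ :=
  ((Algebra.leftMulMatrix (AdjoinRoot.powerBasis hP.ne_zero).basis (AdjoinRoot.root P)) ^ j).trace

theorem trace_pow_eq_powTr (f : Module.End F V) (P : Polynomial ℚ) (hP : P.Monic)
    (hf : f.charpoly = P.map (algebraMap ℚ F)) (j : ℕ) :
    LinearMap.trace F V (f ^ j) = algebraMap ℚ F (powTr P hP j) := by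
  classical
  let b := Module.Free.chooseBasis F V
  let M := LinearMap.toMatrix b b f
  let N := Algebra.leftMulMatrix (AdjoinRoot.powerBasis hP.ne_zero).basis (AdjoinRoot.root P)
  have hN : N.charpoly = P := by
    have h := charpoly_leftMulMatrix (AdjoinRoot.powerBasis hP.ne_zero)
    rw [AdjoinRoot.powerBasis_gen, AdjoinRoot.minpoly_root hP.ne_zero, hP.leadingCoeff, inv_one, map_one, mul_one] at h
    exact h
  rw [LinearMap.trace_eq_matrix_trace F b, ← LinearMap.toMatrix_pow, powTr]
  show (M ^ j).trace = algebraMap ℚ F (N ^ j).trace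
  apply (algebraMap F (AlgebraicClosure F)).injective
  let ι₁ := algebraMap F (AlgebraicClosure F)
  let ι₂ := ι₁.comp (algebraMap ℚ F)
  have e1 : ι₁ (M ^ j).trace = ((M.map ι₁) ^ j).trace := by
    rw [← Matrix.map_pow, AddMonoidHom.map_trace]
  have e2 : ι₂ (N ^ j).trace = ((N.map ι₂) ^ j).trace := by
    rw [← Matrix.map_pow, AddMonoidHom.map_trace]
  show ι₁ (M ^ j).trace = ι₂ (N ^ j).trace
  rw [e1, e2, trace_pow_eq_sum, trace_pow_eq_sum, Matrix.charpoly_map, Matrix.charpoly_map, hN,
    LinearMap.charpoly_toMatrix, hf, Polynomial.map_map]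

theorem trace_mulRight_mulLeft (a b : Module.End F V) :
    LinearMap.trace F (Module.End F V) (LinearMap.mulRight F a * LinearMap.mulLeft F b) =
      LinearMap.trace F V a * LinearMap.trace F V b := by
  classical
  let e := Module.Free.chooseBasis F V
  let B := (Matrix.stdBasis F _ _).map (LinearMap.toMatrix e e).symm
  rw [LinearMap.trace_eq_matrix_trace F B, LinearMap.trace_eq_matrix_trace F e, LinearMap.trace_eq_matrix_trace F e,
    Matrix.trace, Matrix.trace, Matrix.trace, Finset.sum_mul_sum, ← Finset.univ_product_univ,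
    Finset.sum_product_right]
  refine Finset.sum_congr rfl fun i _ => Finset.sum_congr rfl fun j _ => ?_
  simp only [Matrix.diag_apply, B, LinearMap.toMatrix_apply, Module.Basis.map_repr, Module.Basis.map_apply,
    LinearEquiv.trans_apply, LinearEquiv.symm_symm, Module.End.mul_apply, LinearMap.mulRight_apply,
    LinearMap.mulLeft_apply]
  rw [Matrix.stdBasis_eq_single]
  have hM : LinearMap.toMatrix e e (b * (LinearMap.toMatrix e e).symm (Matrix.single j i 1) * a) =
      LinearMap.toMatrix e e b * Matrix.single j i 1 * LinearMap.toMatrix e e a := by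
    rw [LinearMap.toMatrix_mul, LinearMap.toMatrix_mul, LinearEquiv.apply_symm_apply]
  rw [hM]
  show (LinearMap.toMatrix e e b * (Matrix.single j i 1 : Matrix _ _ F) * LinearMap.toMatrix e e a : Matrix _ _ F) j i = _
  rw [Matrix.mul_apply, Finset.sum_eq_single i]
  · rw [Matrix.mul_single_apply_same, mul_one, LinearMap.toMatrix_apply, LinearMap.toMatrix_apply, mul_comm]
  · intro l _ hl
    rw [Matrix.mul_single_apply_of_ne _ _ _ _ _ hl, zero_mul]
  · intro h
    exact absurd (Finset.mem_univ i) h

/-- The trace of a power of the commutator, from the traces of powers. -/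
theorem trace_adj_pow (f : Module.End F V) (τ : ℕ → ℚ) (hτ : ∀ j, LinearMap.trace F V (f ^ j) = algebraMap ℚ F (τ j))
    (m : ℕ) : LinearMap.trace F (Module.End F V) (adj f ^ m) =
      algebraMap ℚ F (∑ i ∈ Finset.range (m + 1), (-1) ^ (m - i) * (m.choose i : ℚ) * (τ i * τ (m - i))) := by
  have hc : Commute (LinearMap.mulRight F f) (-LinearMap.mulLeft F f) :=
    ((LinearMap.commute_mulLeft_right (R := F) f f).symm).neg_right
  rw [adj, sub_eq_add_neg, hc.add_pow, map_sum, map_sum]
  refine Finset.sum_congr rfl fun i _ => ?_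
  rw [neg_pow (LinearMap.mulLeft F f), LinearMap.pow_mulRight, LinearMap.pow_mulLeft]
  have e : LinearMap.mulRight F (f ^ i) * ((-1) ^ (m - i) * LinearMap.mulLeft F (f ^ (m - i))) * (m.choose i : Module.End F (Module.End F V)) =
      ((-1 : F) ^ (m - i) * (m.choose i : F)) • (LinearMap.mulRight F (f ^ i) * LinearMap.mulLeft F (f ^ (m - i))) := by
    rw [← map_natCast (algebraMap F (Module.End F (Module.End F V))), ← Algebra.commutes, ← Algebra.smul_def,
      show ((-1 : Module.End F (Module.End F V)) ^ (m - i)) = algebraMap F _ ((-1 : F) ^ (m - i)) by simp,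
      ← Algebra.smul_def, mul_smul_comm, smul_smul, mul_comm]
  rw [e, map_smul, trace_mulRight_mulLeft, hτ, hτ, smul_eq_mul]
  simp

theorem aeval_mulRight (f : Module.End F V) (p : Polynomial F) :
    Polynomial.aeval (LinearMap.mulRight F f) p = LinearMap.mulRight F (Polynomial.aeval f p) := by
  induction p using Polynomial.induction_on' with
  | add p q hp hq =>
    rw [map_add, map_add, hp, hq]
    ext g : 1
    simp [mul_add]
  | monomial n a =>
    rw [Polynomial.aeval_monomial, Polynomial.aeval_monomial, LinearMap.pow_mulRight]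
    ext g : 1
    simp [← Algebra.smul_def]

theorem aeval_mulLeft (f : Module.End F V) (p : Polynomial F) :
    Polynomial.aeval (LinearMap.mulLeft F f) p = LinearMap.mulLeft F (Polynomial.aeval f p) :=
  Polynomial.aeval_algHom_apply (Algebra.lmul F (Module.End F V)) f p

theorem isSemisimple_adj {f : Module.End F V} (hf : f.IsSemisimple) : (adj f).IsSemisimple := by
  refine Module.End.IsSemisimple.sub_of_commute (LinearMap.commute_mulLeft_right f f).symm ?_ ?_
  · refine Module.End.isSemisimple_of_squarefree_aeval_eq_zero hf.minpoly_squarefree ?_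
    rw [aeval_mulRight, minpoly.aeval]
    simp
  · refine Module.End.isSemisimple_of_squarefree_aeval_eq_zero hf.minpoly_squarefree ?_
    rw [aeval_mulLeft, minpoly.aeval]
    simp

/-- A rational polynomial killing every commutator with a root of `P`. -/
theorem exists_adj_annihilator (P : Polynomial ℚ) (hP : P.Monic) :
    ∃ H : Polynomial ℚ, H ≠ 0 ∧ ∀ {F : Type u} [Field F] [CharZero F] {V : Type v} [AddCommGroup V] [Module F V]
      [Module.Finite F V] (f : Module.End F V), f.charpoly = P.map (algebraMap ℚ F) →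
        Polynomial.aeval (adj f) (H.map (algebraMap ℚ F)) = 0 := by
  classical
  let PE := P.map (algebraMap ℚ (AdjoinRoot P))
  haveI : Module.Finite ℚ (AdjoinRoot P) := hP.finite_adjoinRoot
  haveI : Module.Finite (AdjoinRoot P) (AdjoinRoot PE) := (hP.map _).finite_adjoinRoot
  haveI : Module.Finite ℚ (AdjoinRoot PE) := Module.Finite.trans (AdjoinRoot P) (AdjoinRoot PE)
  let z : AdjoinRoot PE := algebraMap (AdjoinRoot P) (AdjoinRoot PE) (AdjoinRoot.root P) - AdjoinRoot.root PE
  have hz : IsIntegral ℚ z := IsIntegral.of_finite ℚ z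
  refine ⟨minpoly ℚ z, minpoly.ne_zero hz, fun {F} _ _ {V} _ _ _ f hf => ?_⟩
  let S := Algebra.adjoin F ({LinearMap.mulRight F f, LinearMap.mulLeft F f} : Set (Module.End F (Module.End F V)))
  have hcomm := (LinearMap.commute_mulLeft_right (R := F) f f).eq
  letI : CommRing S :=
    { (inferInstance : Ring S) with
      mul_comm := fun x y => by
        refine Subtype.ext ?_
        refine Algebra.commute_of_mem_adjoin_of_forall_mem_commute y.2 ?_
        intro b hb
        refine (Algebra.commute_of_mem_adjoin_of_forall_mem_commute x.2 ?_).symm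
        intro a ha
        rcases hb with rfl | rfl <;> rcases ha with rfl | rfl
        exacts [rfl, hcomm.symm, hcomm, rfl] }
  let i₀ : ℚ →+* S := (algebraMap F S).comp (algebraMap ℚ F)
  let r₁ : S := ⟨LinearMap.mulRight F f, Algebra.subset_adjoin (Or.inl rfl)⟩
  let r₂ : S := ⟨LinearMap.mulLeft F f, Algebra.subset_adjoin (Or.inr rfl)⟩
  have hv : ∀ (r : S) (p : Polynomial ℚ), ((p.eval₂ i₀ r : S) : Module.End F (Module.End F V)) =
      Polynomial.aeval (r : Module.End F (Module.End F V)) (p.map (algebraMap ℚ F)) := fun r p => by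
    rw [Polynomial.aeval_def, Polynomial.eval₂_map]
    exact Polynomial.hom_eval₂ p i₀ (S.val.toRingHom) r
  have hch : Polynomial.aeval f (P.map (algebraMap ℚ F)) = 0 := hf ▸ LinearMap.aeval_self_charpoly f
  have h₁ : P.eval₂ i₀ r₁ = 0 := Subtype.ext <| by
    rw [hv]
    show Polynomial.aeval (LinearMap.mulRight F f) _ = _
    rw [aeval_mulRight, hch]
    simp
  let ψ₁ : AdjoinRoot P →+* S := AdjoinRoot.lift i₀ r₁ h₁
  have h₂ : PE.eval₂ ψ₁ r₂ = 0 := by
    rw [Polynomial.eval₂_map, show ψ₁.comp (algebraMap ℚ (AdjoinRoot P)) = i₀ from Subsingleton.elim _ _]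
    refine Subtype.ext ?_
    rw [hv]
    show Polynomial.aeval (LinearMap.mulLeft F f) _ = _
    rw [aeval_mulLeft, hch]
    simp
  let ψ : AdjoinRoot PE →+* S := AdjoinRoot.lift ψ₁ r₂ h₂
  have hψ : ψ z = r₁ - r₂ := by
    rw [map_sub, AdjoinRoot.lift_root]
    show ψ (AdjoinRoot.of PE (AdjoinRoot.root P)) - r₂ = _
    rw [AdjoinRoot.lift_of, AdjoinRoot.lift_root]
  have h0 : (minpoly ℚ z).eval₂ i₀ (r₁ - r₂) = 0 := by
    have h := congrArg ψ (minpoly.aeval ℚ z)
    rw [map_zero, Polynomial.aeval_def, Polynomial.hom_eval₂, hψ,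
      show ψ.comp (algebraMap ℚ (AdjoinRoot PE)) = i₀ from Subsingleton.elim _ _] at h
    exact h
  have h := hv (r₁ - r₂) (minpoly ℚ z)
  rw [h0] at h
  exact h.symm

/-- The dimension of the centralizer is given by a rational expression in the characteristic polynomial. -/
theorem exists_finrank_ker_adj (P : Polynomial ℚ) (hP : P.Monic) :
    ∃ r : ℚ, ∀ {F : Type u} [Field F] [CharZero F] {V : Type v} [AddCommGroup V] [Module F V] [Module.Finite F V]
      (f : Module.End F V), f.IsSemisimple → f.charpoly = P.map (algebraMap ℚ F) →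
        (Module.finrank F (LinearMap.ker (adj f)) : ℚ) = r := by
  classical
  obtain ⟨H, hH0, hH⟩ := exists_adj_annihilator P hP
  let G := UniqueFactorizationMonoid.radical (X * H)
  have hXH : X * H ≠ 0 := mul_ne_zero Polynomial.X_ne_zero hH0
  have hGsq : Squarefree G := UniqueFactorizationMonoid.squarefree_radical
  obtain ⟨n, c, hn⟩ : ∃ n, X * H ∣ G ^ n :=
    (UniqueFactorizationMonoid.exists_dvd_pow_iff_radical_dvd hXH).2 dvd_rfl
  obtain ⟨S₀, hS₀⟩ : X ∣ G := Polynomial.prime_X.dvd_of_dvd_pow (n := n) ⟨H * c, by rw [hn, mul_assoc]⟩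
  have hs0 : S₀.eval 0 ≠ 0 := fun h => by
    obtain ⟨U, hU⟩ : X ∣ S₀ := Polynomial.X_dvd_iff.2 (by rwa [Polynomial.coeff_zero_eq_eval_zero])
    exact Polynomial.not_isUnit_X (hGsq X ⟨U, by rw [hS₀, hU, mul_assoc]⟩)
  let Q := S₀ * C (S₀.eval 0)⁻¹
  have hQ0 : Q.eval 0 = 1 := by simp [Q, mul_inv_cancel₀ hs0]
  refine ⟨∑ m ∈ Q.support, Q.coeff m *
    ∑ i ∈ Finset.range (m + 1), (-1) ^ (m - i) * (m.choose i : ℚ) * (powTr P hP i * powTr P hP (m - i)),
    fun {F} _ _ {V} _ _ _ f hss hf => ?_⟩
  let ι := algebraMap ℚ F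
  let T := adj f
  have hGT : Polynomial.aeval T (G.map ι) = 0 := by
    refine Module.End.eq_zero_of_isNilpotent_isSemisimple ⟨n, ?_⟩ ((isSemisimple_adj hss).aeval _)
    rw [← map_pow, ← Polynomial.map_pow, hn, Polynomial.map_mul, Polynomial.map_mul, map_mul, map_mul, hH f hf,
      mul_zero, zero_mul]
  let p := Polynomial.aeval T (Q.map ι)
  have hproj : LinearMap.IsProj (LinearMap.ker T) p := by
    refine ⟨fun v => ?_, fun v hv => ?_⟩
    · rw [LinearMap.mem_ker]
      show (T * p) v = 0
      have e : T * p = Polynomial.aeval T ((G * C (S₀.eval 0)⁻¹).map ι) := by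
        rw [hS₀, mul_assoc, Polynomial.map_mul, map_mul, Polynomial.map_X, Polynomial.aeval_X]
      rw [e, Polynomial.map_mul, map_mul, hGT, zero_mul]
      rfl
    · have e : Q = Polynomial.divX Q * X + C 1 := by
        rw [← hQ0, ← Polynomial.coeff_zero_eq_eval_zero]
        exact (Polynomial.divX_mul_X_add Q).symm
      show Polynomial.aeval T (Q.map ι) v = v
      rw [e, Polynomial.map_add, Polynomial.map_mul, Polynomial.map_X, map_add, map_mul, Polynomial.aeval_X,
        LinearMap.add_apply, Module.End.mul_apply, LinearMap.mem_ker.1 hv, map_zero, zero_add]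
      simp
  have htr : LinearMap.trace F _ p = (Module.finrank F (LinearMap.ker T) : F) := hproj.trace
  apply ι.injective
  rw [map_natCast, ← htr, map_sum]
  have hp : p = ∑ m ∈ Q.support, ι (Q.coeff m) • T ^ m := by
    show Polynomial.aeval T (Q.map ι) = _
    rw [Polynomial.aeval_def, Polynomial.eval₂_map, Polynomial.eval₂_eq_sum, Polynomial.sum_def]
    exact Finset.sum_congr rfl fun m _ => by rw [RingHom.comp_apply, ← Algebra.smul_def]
  rw [hp, map_sum]
  refine Finset.sum_congr rfl fun m _ => ?_
  rw [map_smul, trace_adj_pow f (powTr P hP) (trace_pow_eq_powTr f P hP hf), smul_eq_mul, ← map_mul]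

end Groth.Agent.WeilAVLib
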