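import Groth.Agent.AVLib.Deg.AV
import Groth.Agent.GrpQuotLib.KerGrp
import Groth.Agent.AVLib.Etale
import Mathlib

/-!
# The endomorphism of a power of an abelian variety given by an integer matrix
-/

set_option autoImplicit false
set_option backward.isDefEq.respectTransparency false
set_option linter.style.haveILetI false
set_option synthInstance.maxHeartbeats 400000
set_option maxHeartbeats 1000000

universe u

open CategoryTheory CategoryTheory.Limits MonoidalCategory CartesianMonoidalCategory MonObj AlgebraicGeometry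

noncomputable section

namespace Groth.Agent.WeilAVLib.MatEndo

/-- Ranks multiply. -/
theorem finrank_comp {X Y Z : Scheme.{u}} (f : X ⟶ Y) (g : Y ⟶ Z) [IsFinite f] [Flat f] [IsFinite g] [Flat g]
    {n : ℕ} (hn : ∀ y, f.finrank y = n) (z : Z) : (f ≫ g).finrank z = n * g.finrank z := by
  let K := Z.residueField z
  let h := Z.fromSpecResidueField z
  let p : Spec K := IsLocalRing.closedPoint K
  have hp : h p = z := Scheme.fromSpecResidueField_apply z p
  set g' := pullback.snd g h
  set f' := pullback.snd f (pullback.fst g h)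
  have hsq : IsPullback (pullback.fst f (pullback.fst g h)) (f' ≫ g') (f ≫ g) h :=
    (IsPullback.of_hasPullback f (pullback.fst g h)).paste_vert (IsPullback.of_hasPullback g h)
  rw [← hp, ← Scheme.Hom.finrank_of_isPullback _ _ _ _ hsq p, ← Scheme.Hom.finrank_pullback_snd g h p]
  haveI : IsAffine (pullback g h) := isAffine_of_isAffineHom g'
  let e := (pullback g h).isoSpec
  obtain ⟨φ, hφ⟩ := Spec.map_surjective (e.inv ≫ g')
  haveI : IsAffine (pullback f (pullback.fst g h)) := isAffine_of_isAffineHom f'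
  let e' := (pullback f (pullback.fst g h)).isoSpec
  obtain ⟨ψ, hψ⟩ := Spec.map_surjective (e'.inv ≫ f' ≫ e.hom)
  have hg' : g' = e.hom ≫ Spec.map φ := by rw [hφ, Iso.hom_inv_id_assoc]
  have hf' : f' ≫ g' = e'.hom ≫ Spec.map (φ ≫ ψ) := by
    rw [Spec.map_comp, hψ, hg']; simp
  have hfr : ∀ q, (Spec.map ψ).finrank q = n := fun q => by
    have hsq' : IsPullback (e'.inv) (Spec.map ψ) f' e.inv := IsPullback.of_horiz_isIso ⟨by rw [hψ]; simp⟩
    rw [Scheme.Hom.finrank_of_isPullback _ _ _ _ hsq' q, Scheme.Hom.finrank_pullback_snd, hn]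
  haveI : IsFinite (Spec.map φ) := by rw [hφ]; infer_instance
  haveI : IsFinite (Spec.map ψ) := by rw [hψ]; infer_instance
  haveI : Flat (Spec.map φ) := by rw [hφ]; infer_instance
  haveI : Flat (Spec.map ψ) := by rw [hψ]; infer_instance
  haveI : IsFinite (Spec.map (φ ≫ ψ)) := by rw [Spec.map_comp]; infer_instance
  haveI : Flat (Spec.map (φ ≫ ψ)) := by rw [Spec.map_comp]; infer_instance
  show (f' ≫ g').finrank p = n * g'.finrank p
  rw [hf', hg', Scheme.Hom.finrank_comp_left_of_isIso, Scheme.Hom.finrank_comp_left_of_isIso]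
  let B : Type u := Γ(pullback g h, ⊤)
  let C : Type u := Γ(pullback f (pullback.fst g h), ⊤)
  letI : Algebra K B := φ.hom.toAlgebra
  letI : Algebra B C := ψ.hom.toAlgebra
  letI : Algebra K C := (ψ.hom.comp φ.hom).toAlgebra
  haveI : IsScalarTower K B C := IsScalarTower.of_algebraMap_eq fun _ => rfl
  haveI : Module.Finite K B := RingHom.finite_algebraMap.1 ((IsFinite.SpecMap_iff _).1 ‹IsFinite (Spec.map φ)›)
  haveI : Module.Finite B C := RingHom.finite_algebraMap.1 ((IsFinite.SpecMap_iff _).1 ‹IsFinite (Spec.map ψ)›)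
  haveI : Module.Flat B C := RingHom.flat_algebraMap_iff.1 ((Flat.SpecMap_iff).1 ‹Flat (Spec.map ψ)›)
  haveI : Module.Finite K C := Module.Finite.trans B C
  haveI : IsArtinianRing B := IsArtinianRing.of_finite K B
  have hrk : ∀ q : PrimeSpectrum B, Module.rankAtStalk C q = n := fun q => by
    rw [← hfr q]
    exact (Scheme.Hom.finrank_SpecMap_algebraMap B C q).symm
  haveI : Module.Free B C := Module.free_of_flat_of_finrank_eq B C n fun P => by
    letI := Ideal.Quotient.field P.1
    have h1 := Module.rankAtStalk_baseChange (R := B) (M := C) (S := B ⧸ P.1) (⊥ : PrimeSpectrum (B ⧸ P.1))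
    rw [Module.rankAtStalk_eq_finrank_of_free, hrk] at h1
    exact h1
  have h2 : (Spec.map (φ ≫ ψ)).finrank p = Module.finrank K C := by
    refine (Scheme.Hom.finrank_SpecMap_algebraMap K C p).trans ?_
    rw [Module.rankAtStalk_eq_finrank_of_free]
    rfl
  have h3 : (Spec.map φ).finrank p = Module.finrank K B := by
    refine (Scheme.Hom.finrank_SpecMap_algebraMap K B p).trans ?_
    rw [Module.rankAtStalk_eq_finrank_of_free]
    rfl
  rw [h2, h3]
  rcases subsingleton_or_nontrivial B with hB | hB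
  · haveI : Subsingleton C := Module.subsingleton B C
    rw [Module.finrank_zero_of_subsingleton, Module.finrank_zero_of_subsingleton, mul_zero]
  · obtain ⟨q⟩ : Nonempty (PrimeSpectrum B) := inferInstance
    rw [← Module.finrank_mul_finrank K B C, ← hrk q, Module.rankAtStalk_eq_finrank_of_free, mul_comm]
    rfl

theorem zpow_sum' {G J : Type*} [CommGroup G] (x : G) (s : Finset J) (f : J → ℤ) :
    x ^ (∑ j ∈ s, f j) = ∏ j ∈ s, x ^ f j := by
  classical
  induction s using Finset.induction_on with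
  | empty => simp
  | insert a s ha ih => rw [Finset.sum_insert ha, Finset.prod_insert ha, zpow_add, ih]

variable {k : Type u} [Field k] {X : Over (Spec (CommRingCat.of k))} [GrpObj X] [IsCommMonObj X] {r : ℕ}

/-- The endomorphism given by a matrix. -/
def mat (α : Matrix (Fin r) (Fin r) ℤ) : (∏ᶜ fun _ : Fin r => X) ⟶ (∏ᶜ fun _ : Fin r => X) :=
  Pi.lift (fun i => ∏ j : Fin r, (Pi.π (fun _ : Fin r => X) j) ^ (α i j))

theorem comp_prod {T T' Y : Over (Spec (CommRingCat.of k))} [GrpObj Y] [IsCommMonObj Y] (f : T ⟶ T') {J : Type*}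
    (s : Finset J) (x : J → (T' ⟶ Y)) : f ≫ ∏ i ∈ s, x i = ∏ i ∈ s, f ≫ x i :=
  map_prod (MonoidHom.mk' (fun a : T' ⟶ Y => f ≫ a) fun a b => MonObj.comp_mul f a b) x s

theorem comp_zpow' {T T' Y : Over (Spec (CommRingCat.of k))} [GrpObj Y] [IsCommMonObj Y] (f : T ⟶ T') (x : T' ⟶ Y)
    (d : ℤ) : f ≫ x ^ d = (f ≫ x) ^ d :=
  map_zpow (MonoidHom.mk' (fun a : T' ⟶ Y => f ≫ a) fun a b => MonObj.comp_mul f a b) x d

theorem mat_π (α : Matrix (Fin r) (Fin r) ℤ) (i : Fin r) :
    mat (X := X) α ≫ Pi.π _ i = ∏ j : Fin r, (Pi.π (fun _ : Fin r => X) j) ^ (α i j) := Pi.lift_π _ _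

theorem mat_one : mat (X := X) (1 : Matrix (Fin r) (Fin r) ℤ) = 𝟙 _ := Pi.hom_ext _ _ fun i => by
  rw [mat_π, Category.id_comp, Finset.prod_eq_single i (fun j _ hj => by rw [Matrix.one_apply_ne' hj, zpow_zero])
    (fun h => absurd (Finset.mem_univ i) h), Matrix.one_apply_eq, zpow_one]

theorem mat_mul (α β : Matrix (Fin r) (Fin r) ℤ) : mat (X := X) (α * β) = mat β ≫ mat α := Pi.hom_ext _ _ fun i => by
  rw [mat_π, Category.assoc, mat_π, comp_prod]
  simp only [comp_zpow', mat_π, ← Finset.prod_zpow, ← zpow_mul]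
  rw [Finset.prod_comm]
  refine Finset.prod_congr rfl fun l _ => ?_
  simp only [Matrix.mul_apply]
  generalize Pi.π (fun _ : Fin r => X) l = x
  rw [zpow_sum']
  exact Finset.prod_congr rfl fun j _ => by rw [mul_comm]

theorem mat_isIso (U V : Matrix (Fin r) (Fin r) ℤ) (h1 : U * V = 1) (h2 : V * U = 1) :
    IsIso (mat (X := X) U) :=
  ⟨mat V, by rw [← mat_mul, h2, mat_one], by rw [← mat_mul, h1, mat_one]⟩

variable [IsProper X.hom] [GeometricallyIntegral X.hom] (g : ℕ)

/-- Finite flat of the expected degree. -/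
def Good (α : Matrix (Fin r) (Fin r) ℤ) : Prop :=
  IsFinite (mat (X := X) α).left ∧ Flat (mat (X := X) α).left ∧
    ∀ y, (mat (X := X) α).left.finrank y = α.det.natAbs ^ (2 * g)

theorem good_mul {α β : Matrix (Fin r) (Fin r) ℤ} (hα : Good (X := X) g α) (hβ : Good (X := X) g β) :
    Good (X := X) g (α * β) := by
  obtain ⟨h1, h2, h3⟩ := hα
  obtain ⟨h4, h5, h6⟩ := hβ
  rw [Good, mat_mul, Over.comp_left]
  refine ⟨inferInstance, inferInstance, fun y => ?_⟩
  rw [finrank_comp _ _ h6, h3, Matrix.det_mul, Int.natAbs_mul, mul_pow, mul_comm]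

theorem good_unit (U V : Matrix (Fin r) (Fin r) ℤ) (h1 : U * V = 1) (h2 : V * U = 1) : Good (X := X) g U := by
  haveI := mat_isIso (X := X) U V h1 h2
  haveI : IsIso (mat (X := X) U).left := inferInstanceAs (IsIso ((Over.forget _).map (mat (X := X) U)))
  refine ⟨inferInstance, inferInstance, fun y => ?_⟩
  have hd : U.det.natAbs = 1 := by
    have h := congrArg (fun M : Matrix (Fin r) (Fin r) ℤ => M.det.natAbs) h1
    simp only [Matrix.det_mul, Matrix.det_one, Int.natAbs_mul, Int.natAbs_one] at h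
    exact Nat.eq_one_of_mul_eq_one_right h
  rw [Scheme.Hom.finrank_eq_one_of_isIso, hd, one_pow]
  rfl

theorem good_single (hg : topologicalKrullDim X.left = g) (i : Fin r) (d : ℤ) (hd : d ≠ 0) :
    Good (X := X) g (Matrix.diagonal (Function.update (fun _ => (1 : ℤ)) i d)) := by
  set D := Matrix.diagonal (Function.update (fun _ : Fin r => (1 : ℤ)) i d)
  have hdet : D.det = d := by
    rw [Matrix.det_diagonal, Finset.prod_update_of_mem (Finset.mem_univ i)]; simp
  have hπ : ∀ j, mat (X := X) D ≫ Pi.π _ j = (Pi.π (fun _ : Fin r => X) j) ^ (Function.update (fun _ => (1 : ℤ)) i d j) :=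
    fun j => by
      rw [mat_π, Finset.prod_eq_single j (fun l _ hl => by rw [show D j l = 0 from Matrix.diagonal_apply_ne' _ hl, zpow_zero])
        (fun h => absurd (Finset.mem_univ j) h), show D j j = _ from Matrix.diagonal_apply_eq _ j]
  set u := (𝟙 X) ^ d
  have hpb : IsPullback (mat (X := X) D) (Pi.π (fun _ : Fin r => X) i) (Pi.π (fun _ : Fin r => X) i) u := by
    refine ⟨⟨by rw [hπ, Function.update_self, comp_zpow', Category.comp_id]⟩, ⟨PullbackCone.IsLimit.mk _
      (fun s => Pi.lift fun j => if j = i then s.snd else s.fst ≫ Pi.π _ j) (fun s => ?_) (fun s => ?_)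
      (fun s m hm1 hm2 => ?_)⟩⟩
    · refine Pi.hom_ext _ _ fun j => ?_
      rw [Category.assoc, hπ, comp_zpow', Pi.lift_π]
      rcases eq_or_ne j i with rfl | hj
      · rw [if_pos rfl, Function.update_self, s.condition, comp_zpow', Category.comp_id]
      · rw [if_neg hj, Function.update_of_ne hj, zpow_one]
    · rw [Pi.lift_π, if_pos rfl]
    · refine Pi.hom_ext _ _ fun j => ?_
      rw [Pi.lift_π]
      rcases eq_or_ne j i with rfl | hj
      · rw [if_pos rfl]; exact hm2
      · rw [if_neg hj, ← hm1, Category.assoc, hπ, Function.update_of_ne hj, zpow_one]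
  have hu : IsFinite u.left ∧ Flat u.left ∧ ∀ y, u.left.finrank y = d.natAbs ^ (2 * g) := by
    obtain ⟨h1, h2, h3⟩ := AVLib.npow_spec hg d.natAbs (Int.natAbs_pos.2 hd)
    haveI := h1
    haveI := h2
    rcases Int.natAbs_eq d with e | e
    · have : u = 𝟙 X ^ d.natAbs := by
        show (𝟙 X) ^ d = _
        conv_lhs => rw [e, zpow_natCast]
      rw [this]; exact ⟨h1, h2, h3⟩
    · have : u = (𝟙 X)⁻¹ ≫ 𝟙 X ^ d.natAbs := by
        show (𝟙 X) ^ d = _
        rw [MonObj.comp_pow, Category.comp_id, inv_pow]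
        conv_lhs => rw [e, zpow_neg, zpow_natCast]
      rw [this, Over.comp_left]
      haveI : IsIso ((𝟙 X)⁻¹ : X ⟶ X).left := inferInstanceAs (IsIso ((Over.forget _).map ((𝟙 X)⁻¹ : X ⟶ X)))
      exact ⟨inferInstance, inferInstance, fun y => by rw [Scheme.Hom.finrank_comp_left_of_isIso, h3]⟩
  obtain ⟨h1, h2, h3⟩ := hu
  have hsq := GrpQuotLib.isPullback_left hpb
  haveI := h1
  haveI := h2
  refine ⟨MorphismProperty.of_isPullback hsq.flip h1, MorphismProperty.of_isPullback hsq.flip h2, fun y => ?_⟩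
  rw [hdet, Scheme.Hom.finrank_of_isPullback _ _ _ _ hsq.flip y, h3]

theorem good_diagonal (hg : topologicalKrullDim X.left = g) (a : Fin r → ℤ) (ha : ∀ i, a i ≠ 0) :
    Good (X := X) g (Matrix.diagonal a) := by
  classical
  suffices h : ∀ s : Finset (Fin r), Good (X := X) g (Matrix.diagonal fun i => if i ∈ s then a i else 1) by
    simpa using h Finset.univ
  intro s
  induction s using Finset.induction_on with
  | empty => simpa using good_unit (X := X) g (1 : Matrix (Fin r) (Fin r) ℤ) 1 (mul_one _) (mul_one _)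
  | insert i s hi ih =>
    have e : (Matrix.diagonal fun j => if j ∈ insert i s then a j else 1) =
        Matrix.diagonal (Function.update (fun _ => (1 : ℤ)) i (a i)) * Matrix.diagonal fun j => if j ∈ s then a j else 1 := by
      rw [Matrix.diagonal_mul_diagonal]
      congr 1
      funext j
      rcases eq_or_ne j i with rfl | hj
      · simp [hi]
      · simp [hj]
    rw [e]
    exact good_mul g (good_single g hg i (a i) (ha i)) ih

theorem good (hg : topologicalKrullDim X.left = g) (α : Matrix (Fin r) (Fin r) ℤ) (hα : α.det ≠ 0) :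
    Good (X := X) g α := by
  classical
  let f : (Fin r → ℤ) →ₗ[ℤ] (Fin r → ℤ) := Matrix.toLin' α
  have hf : Function.Injective f := by
    rw [← LinearMap.ker_eq_bot, LinearMap.ker_eq_bot']
    intro v hv
    exact Matrix.eq_zero_of_mulVec_eq_zero hα (by simpa [f] using hv)
  let eN := LinearEquiv.ofInjective f hf
  obtain ⟨bM, a, ab, hab⟩ := Submodule.exists_smith_normal_form_of_rank_eq (Pi.basisFun ℤ (Fin r))
    (N := LinearMap.range f) eN.finrank_eq.symm
  let Pe := bM.equivFun.symm
  let Qe := eN.trans ab.equivFun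
  have hfac : f = Pe.toLinearMap ∘ₗ (Matrix.toLin' (Matrix.diagonal a)) ∘ₗ Qe.toLinearMap := by
    refine LinearMap.ext fun x => ?_
    have h1 : f x = (eN x : Fin r → ℤ) := rfl
    rw [h1]
    simp only [LinearMap.comp_apply, LinearEquiv.coe_coe, Pe, Qe, LinearEquiv.trans_apply,
      Module.Basis.equivFun_symm_apply, Matrix.toLin'_apply, Matrix.mulVec_diagonal]
    conv_lhs => rw [← ab.sum_repr (eN x)]
    rw [Submodule.coe_sum]
    refine Finset.sum_congr rfl fun i _ => ?_
    rw [Submodule.coe_smul, hab, smul_smul, mul_comm, Module.Basis.equivFun_apply]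
  have hα' : α = LinearMap.toMatrix' Pe.toLinearMap * (Matrix.diagonal a * LinearMap.toMatrix' Qe.toLinearMap) := by
    have h := congrArg LinearMap.toMatrix' hfac
    rwa [LinearMap.toMatrix'_comp, LinearMap.toMatrix'_comp, LinearMap.toMatrix'_toLin', LinearMap.toMatrix'_toLin'] at h
  have hu : ∀ e : (Fin r → ℤ) ≃ₗ[ℤ] (Fin r → ℤ), Good (X := X) g (LinearMap.toMatrix' e.toLinearMap) := fun e =>
    good_unit g _ (LinearMap.toMatrix' e.symm.toLinearMap)
      (by rw [← LinearMap.toMatrix'_comp, LinearEquiv.comp_coe, LinearEquiv.symm_trans_self, LinearEquiv.refl_toLinearMap,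
        LinearMap.toMatrix'_id])
      (by rw [← LinearMap.toMatrix'_comp, LinearEquiv.comp_coe, LinearEquiv.self_trans_symm, LinearEquiv.refl_toLinearMap,
        LinearMap.toMatrix'_id])
  have ha : ∀ i, a i ≠ 0 := fun i h0 => hα (by
    rw [hα', Matrix.det_mul, Matrix.det_mul, Matrix.det_diagonal, Finset.prod_eq_zero (Finset.mem_univ i) h0,
      zero_mul, mul_zero])
  rw [hα']
  exact good_mul g (hu Pe) (good_mul g (good_diagonal g hg a ha) (hu Qe))

end Groth.Agent.WeilAVLib.MatEndo
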