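import Groth.Agent.WeilAVLib.Def
import Groth.Agent.WeilAVLib.AlgZero
import Groth.Agent.DegPolyLib.Simple

/-!
# The automorphisms of a polarized abelian variety form a finite set
-/

set_option autoImplicit false
set_option backward.isDefEq.respectTransparency false
set_option linter.style.haveILetI false
set_option synthInstance.maxHeartbeats 400000
set_option maxHeartbeats 1000000

universe u

open CategoryTheory CategoryTheory.Limits MonoidalCategory CartesianMonoidalCategory MonObj AlgebraicGeometry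
open Groth.Agent.PicLib (Pic cls pull pull_cls cls_tensor cls_tensorPow cls_eq_cls)
open Groth.Agent.DegPolyLib (bil bilHom bil_comm bil_self phi degE deg)

noncomputable section

namespace Groth.Agent.WeilAVLib

/-- The Cauchy-Schwarz inequality for an integral form. -/
theorem sq_le_mul_of_posDef {M : Type*} [AddCommGroup M] (B : M →+ M →+ ℤ) (hs : ∀ x y, B x y = B y x)
    (hpos : ∀ x, x ≠ 0 → 0 < B x x) (x y : M) : B x y ^ 2 ≤ B x x * B y y := by
  rcases eq_or_ne y 0 with rfl | hy
  · simp
  have h : 0 ≤ B (B y y • x - B x y • y) (B y y • x - B x y • y) := by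
    rcases eq_or_ne (B y y • x - B x y • y) 0 with h | h
    · rw [h]; simp
    · exact (hpos _ h).le
  simp only [map_sub, AddMonoidHom.sub_apply, map_zsmul, AddMonoidHom.smul_apply, smul_eq_mul, hs y x] at h
  have := hpos y hy
  nlinarith

/-- The sublevel sets of a positive definite form on a finitely generated group are finite. -/
theorem finite_sublevel {M : Type*} [AddCommGroup M] [Module.Finite ℤ M] (B : M →+ M →+ ℤ)
    (hs : ∀ x y, B x y = B y x) (hpos : ∀ x, x ≠ 0 → 0 < B x x) (N : ℤ) : {x : M | B x x ≤ N}.Finite := by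
  obtain ⟨s, hs'⟩ := (Module.Finite.fg_top : (⊤ : Submodule ℤ M).FG)
  have hinj : Function.Injective fun (x : M) (b : s) => B x b := by
    intro x y h
    by_contra hne
    have hz : ∀ z : M, B (x - y) z = 0 := fun z => by
      have hzmem : z ∈ Submodule.span ℤ (s : Set M) := hs' ▸ Submodule.mem_top
      induction hzmem using Submodule.span_induction with
      | mem z hz => rw [map_sub, AddMonoidHom.sub_apply, sub_eq_zero]; exact congrFun h ⟨z, hz⟩
      | zero => exact map_zero _
      | add a b _ _ ha hb => rw [map_add, ha, hb, add_zero]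
      | smul n a _ ha => rw [map_zsmul, ha, smul_zero]
    exact (hpos _ (sub_ne_zero.2 hne)).ne' (hz _)
  refine Set.Finite.of_finite_image (Set.Finite.subset (Set.Finite.pi fun b : s =>
    Set.finite_Icc (-(1 + |N * B b b|)) (1 + |N * B b b|)) ?_) hinj.injOn
  rintro f ⟨x, hx, rfl⟩ b -
  have h1 : 0 ≤ B (b : M) b := by
    rcases eq_or_ne (b : M) 0 with h | h
    · rw [h]; simp
    · exact (hpos _ h).le
  have h2 : B x b ^ 2 ≤ N * B b b :=
    (sq_le_mul_of_posDef B hs hpos x b).trans (mul_le_mul_of_nonneg_right hx h1)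
  constructor <;> nlinarith [le_abs_self (N * B b b)]

variable {K : Type u} [Field K] [IsAlgClosed K] {A : Over (Spec (CommRingCat.of K))} [GrpObj A] [IsCommMonObj A]
  [IsProper A.hom] [GeometricallyIntegral A.hom] {g : ℕ} (hA : topologicalKrullDim A.left = g)

/-- The homomorphism of an endomorphism to its map. -/
def toHomAdd : EndAV.End A →+ Additive (A ⟶ A) :=
  AddMonoidHom.mk' (fun φ => Additive.ofMul φ.toHom) fun a b => congrArg Additive.ofMul (EndAV.End.toHom_add a b)

/-- The polar form of the quadratic form of a symmetric ample class. -/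
def qForm (c : Pic A.left) (i : Fin g) : EndAV.End A →+ EndAV.End A →+ ℤ :=
  AddMonoidHom.mk' (fun e => ((slot hA (fun _ => c) i).comp ((bilHom c) (toHomAdd e))).comp toHomAdd)
    fun a b => by ext x; simp

theorem qForm_apply (c : Pic A.left) (i : Fin g) (e f : EndAV.End A) :
    qForm hA c i e f = topA A (Function.update (fun _ => c) i (bil c e.toHom f.toHom)) := rfl

theorem qForm_self {c : Pic A.left} (hc : pull ((𝟙 A)⁻¹).left c = c) (i : Fin g) (e : EndAV.End A) :
    qForm hA c i e e = 2 * topA A (Function.update (fun _ => c) i (pull e.toHom.left c)) := by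
  rw [qForm_apply, bil_self c hc, topA_update_mul hA, two_mul]

include hA in
theorem topA_const_pull_of_iso {α : EndAV.End A} [IsIso α.toHom] (c : Pic A.left) :
    topA A (fun _ : Fin g => pull α.toHom.left c) = topA A (fun _ : Fin g => c) := by
  haveI : IsMonHom (asIso α.toHom).hom := inferInstanceAs (IsMonHom α.toHom)
  haveI : IsMonHom (inv α.toHom) := inferInstanceAs (IsMonHom (asIso α.toHom).inv)
  have h1 : deg α.toHom * deg (inv α.toHom) = 1 := by
    rw [← DegPolyLib.deg_comp hA hA hA, IsIso.hom_inv_id, ← EndAV.End.toHom_one]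
    exact DegPolyLib.degE_one hA
  have h := DegPolyLib.selfInt_pull_eq hA hA α.toHom c
  rw [Nat.eq_one_of_mul_eq_one_right h1, Nat.cast_one, _root_.one_mul] at h
  exact h

include hA in
theorem subsingleton_end_of_dim_zero (hg : g = 0) : Subsingleton (EndAV.End A) :=
  haveI := DegPolyLib.subsingleton_end0_of_dim_zero hA hg
  AVHomLib.toEnd0_injective.subsingleton

include hA in
theorem finite_autPol (L : A.left.Modules) (hLi : PicF.IsInvertible L) (hL : CohB1.IsAmple L) :
    Set.Finite {α : A ⟶ A | IsMonHom α ∧ IsIso α ∧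
      ∃ (m m' : ℕ) (N : A.left.Modules), 0 < m ∧ 0 < m' ∧ PicF.IsInvertible N ∧
        @Pic13.IsAlgEquivZero K _ A.left ⟨A.hom⟩ N ∧
        Nonempty (CohB1.tensorMod (CohB1.tensorPow ((Scheme.Modules.pullback α.left).obj L) m') N ≅ CohB1.tensorPow L m)} := by
  have hfin : ∀ S : Set (EndAV.End A), S.Finite →
      (∀ α : EndAV.End A, IsIso α.toHom → (∃ (m m' : ℕ) (N : A.left.Modules), 0 < m ∧ 0 < m' ∧ PicF.IsInvertible N ∧
        @Pic13.IsAlgEquivZero K _ A.left ⟨A.hom⟩ N ∧
        Nonempty (CohB1.tensorMod (CohB1.tensorPow ((Scheme.Modules.pullback α.toHom.left).obj L) m') N ≅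
          CohB1.tensorPow L m)) → α ∈ S) →
      Set.Finite {α : A ⟶ A | IsMonHom α ∧ IsIso α ∧
        ∃ (m m' : ℕ) (N : A.left.Modules), 0 < m ∧ 0 < m' ∧ PicF.IsInvertible N ∧
          @Pic13.IsAlgEquivZero K _ A.left ⟨A.hom⟩ N ∧
          Nonempty (CohB1.tensorMod (CohB1.tensorPow ((Scheme.Modules.pullback α.left).obj L) m') N ≅
            CohB1.tensorPow L m)} := fun S hS h =>
    (hS.image EndAV.End.toHom).subset fun α ⟨h1, h2, h3⟩ => by
      haveI := h1
      exact ⟨EndAV.End.of α, h _ h2 h3, rfl⟩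
  rcases g.eq_zero_or_pos with hg | hg
  · haveI := subsingleton_end_of_dim_zero hA hg
    exact hfin Set.univ (Set.toFinite _) fun _ _ _ => Set.mem_univ _
  let i : Fin g := ⟨0, hg⟩
  let c₀ : Pic A.left := cls hL.1
  let c : Pic A.left := c₀ * pull ((𝟙 A)⁻¹).left c₀
  have hii : ∀ a : Pic A.left, pull ((𝟙 A)⁻¹).left (pull ((𝟙 A)⁻¹).left a) = a := fun a => by
    rw [← PicLib.pull_comp, ← Over.comp_left, GrpObj.inv_comp, Category.id_comp, inv_inv, Over.id_left, PicLib.pull_id]
  haveI : IsIso ((𝟙 A)⁻¹).left := by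
    refine ⟨((𝟙 A)⁻¹).left, ?_, ?_⟩ <;>
      rw [← Over.comp_left, GrpObj.inv_comp, Category.id_comp, inv_inv, Over.id_left]
  have hcSA : IsSA c := by
    refine ⟨⟨_, AmpleLib.isAmple_tensor hL (AmpleLib.isAmple_pullback ((𝟙 A)⁻¹).left hL), ?_⟩, ?_⟩
    · rw [cls_tensor hL.1 (AmpleLib.isAmple_pullback ((𝟙 A)⁻¹).left hL).1, ← pull_cls _ hL.1]
    · rw [map_mul, hii, mul_comm]
  have hpos : ∀ x : EndAV.End A, x ≠ 0 → 0 < qForm hA c i x x := fun x hx => by
    rw [qForm_self hA hcSA.symm]
    have := slot_pos hA hcSA i hx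
    linarith
  haveI : Module.Finite ℤ (EndAV.End A) := (AVHomLib.finite_hom A A).1
  have hD : 0 < topA A (fun _ : Fin g => c) := topA_pos_of_ample hA _ fun _ => hcSA.ample
  refine hfin _ (finite_sublevel (qForm hA c i) (fun x y => by rw [qForm_apply, qForm_apply, bil_comm]) hpos
    (2 * topA A (fun _ : Fin g => c))) fun α hiso ⟨m, m', N, hm, hm', hN, halg, ⟨e⟩⟩ => ?_
  haveI := hiso
  set a : Pic A.left := pull α.toHom.left c with ha
  have h0 : pull α.toHom.left c₀ ^ m' * cls hN = c₀ ^ m := by
    have h := (cls_eq_cls (AmpleLib.isInvertible_tensor (AmpleLib.isInvertible_tensorPow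
      (AmpleLib.isInvertible_pullback α.toHom.left hLi) m') hN)
      (AmpleLib.isInvertible_tensorPow hL.1 m)).2 ⟨e⟩
    rw [cls_tensor (AmpleLib.isInvertible_tensorPow (AmpleLib.isInvertible_pullback α.toHom.left hLi) m') hN,
      cls_tensorPow (AmpleLib.isInvertible_pullback α.toHom.left hLi), cls_tensorPow hL.1, ← pull_cls _ hL.1] at h
    exact h
  have hn : cls hN * pull ((𝟙 A)⁻¹).left (cls hN) = 1 := by
    have h := defect_eq_one_of_isAlgEquivZero hN halg (𝟙 A) (𝟙 A)⁻¹
    rw [AVLib.defect_eq_one_iff, mul_inv_cancel, AVLib.pull_one, Over.id_left, PicLib.pull_id] at h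
    exact h.symm
  have hcm : a ^ m' = c ^ m := by
    have h1 : pull ((𝟙 A)⁻¹).left (pull α.toHom.left c₀) = pull α.toHom.left (pull ((𝟙 A)⁻¹).left c₀) := by
      rw [← PicLib.pull_comp, ← PicLib.pull_comp, ← Over.comp_left, ← Over.comp_left, inv_comp_hom]
    calc a ^ m' = pull α.toHom.left c₀ ^ m' * cls hN *
          pull ((𝟙 A)⁻¹).left (pull α.toHom.left c₀ ^ m' * cls hN) := by
          rw [ha, map_mul, map_mul, map_pow, h1, mul_pow, _root_.mul_mul_mul_comm, hn, _root_.mul_one]
      _ = c ^ m := by rw [h0, map_pow, ← mul_pow]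
  have htop : ∀ (b : Pic A.left) (n : ℕ), topA A (fun _ : Fin g => b ^ n) = (n : ℤ) ^ g * topA A (fun _ : Fin g => b) := by
    intro b n
    have h := topA_update_pow hA b b i n n
    rw [Function.update_eq_self_iff.2 rfl, Function.update_eq_self_iff.2 rfl, ← pow_succ',
      Nat.sub_add_cancel hg] at h
    exact h
  have hmm : m' = m := by
    have h := htop a m'
    rw [hcm, htop c m, ha, topA_const_pull_of_iso hA, mul_left_inj' hD.ne'] at h
    exact_mod_cast ((pow_left_inj₀ (Nat.cast_nonneg m) (Nat.cast_nonneg m') hg.ne').1 h).symm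
  have hq : topA A (Function.update (fun _ => c) i a) = topA A (fun _ : Fin g => c) := by
    have h1 := topA_update_pow hA a c i 1 m'
    have h2 := topA_update_pow hA c c i 1 m
    simp only [pow_one, Nat.cast_one, one_pow, _root_.mul_one] at h1 h2
    rw [hcm, h2, hmm, Function.update_eq_self_iff.2 rfl] at h1
    exact (mul_left_cancel₀ (by exact_mod_cast hm.ne') h1).symm
  show qForm hA c i α α ≤ _
  rw [qForm_self hA hcSA.symm, hq]

end Groth.Agent.WeilAVLib
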