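import Groth.Agent.VerschLib.Basic
import Groth.Agent.GrpSchLib.DeligneScheme
import Groth.Agent.GrpQuotLib.KerGrp
import Groth.Agent.GrpQuotLib.Descend
import Groth.Agent.GrpInfLib.Comm
import Groth.Agent.AVLib.Isog
import Groth.Agent.CogenLib.Frob

/-!
# `q / π` is an endomorphism: the kernel of Frobenius is killed by `q`
-/

set_option autoImplicit false
set_option backward.isDefEq.respectTransparency false
set_option backward.isDefEq.respectTransparency.types false
set_option linter.style.haveILetI false
set_option synthInstance.maxHeartbeats 400000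
set_option maxHeartbeats 1000000

universe u

open CategoryTheory CategoryTheory.Limits AlgebraicGeometry MonObj MonoidalCategory CartesianMonoidalCategory
open TensorProduct WithConv

noncomputable section

namespace Groth.Agent.WeilAVLib

section Algebra

variable (p : ℕ) [Fact p.Prime] {R : Type u} [CommRing R] [CharP R p] {A : Type u} [CommRing A] [HopfAlgebra R A]
  [Coalgebra.IsCocomm R A] [Module.Finite R A] [Module.Projective R A]

theorem powConv_prime_mem (a : A) :
    SGA3b.powConv R A p a ∈ Submodule.span R (Set.range fun b : A => b ^ p) := by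
  classical
  obtain ⟨n, e, f, hef⟩ := VerschLib.exists_dualBasis R A
  let Φ : CartDual.D R A →+* WithConv (A →ₗ[R] A) :=
    { toFun := fun g => toConv (Algebra.linearMap R A ∘ₗ g.ofConv)
      map_one' := by
        refine WithConv.ext (LinearMap.ext fun c => ?_)
        change algebraMap R A ((1 : CartDual.D R A) c) = algebraMap R A (Coalgebra.counit c)
        rw [LinearMap.convOne_apply]; rfl
      map_mul' := fun g g' => by
        refine WithConv.ext ?_
        exact LinearMap.algHom_comp_convMul_distrib (Algebra.ofId R A) g g'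
      map_zero' := by refine WithConv.ext (LinearMap.ext fun c => ?_); exact map_zero (algebraMap R A)
      map_add' := fun g g' => by
        refine WithConv.ext (LinearMap.ext fun c => ?_)
        exact map_add (algebraMap R A) _ _ }
  have hid : (toConv (LinearMap.id : A →ₗ[R] A)) = ∑ i, e i • Φ (toConv (f i)) := by
    refine WithConv.ext (LinearMap.ext fun c => ?_)
    rw [WithConv.ofConv_sum, LinearMap.sum_apply]
    conv_lhs => rw [ofConv_toConv, LinearMap.id_apply, ← hef c]
    refine Finset.sum_congr rfl fun i _ => ?_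
    rw [Algebra.smul_def, mul_comm]
    rfl
  have hp0 : (p : WithConv (A →ₗ[R] A)) = 0 := by
    rw [← map_natCast (algebraMap R (WithConv (A →ₗ[R] A))), CharP.cast_eq_zero, map_zero]
  have hpow : SGA3b.powConv R A p a = ((toConv (LinearMap.id : A →ₗ[R] A)) ^ p).ofConv a := by
    have := AlgHom.toLinearMap_convPow (toConv (AlgHom.id R A)) p
    exact congrArg (fun k => k.ofConv a) this
  rw [hpow, hid, VerschLib.sum_pow_prime hp0, WithConv.ofConv_sum, LinearMap.sum_apply]
  refine Submodule.sum_mem _ fun i _ => ?_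
  rw [smul_pow, ← map_pow]
  have h : ((e i ^ p) • Φ (toConv (f i) ^ p)).ofConv a = ((toConv (f i) ^ p : CartDual.D R A) a) • (e i ^ p) := by
    rw [Algebra.smul_def (A := A), mul_comm]
    rfl
  rw [h]
  exact Submodule.smul_mem _ _ (Submodule.subset_span ⟨e i, rfl⟩)

theorem powConv_pow_mem [CharP A p] : ∀ (m : ℕ) (a : A),
    SGA3b.powConv R A (p ^ m) a ∈ Submodule.span R (Set.range fun b : A => b ^ p ^ m)
  | 0, a => by
    rw [pow_zero, FinHopf.powConv_one]
    exact Submodule.subset_span ⟨a, pow_one a⟩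
  | m + 1, a => by
    rw [pow_succ', ← FinHopf.powConv_comp]
    have h := powConv_pow_mem m a
    generalize SGA3b.powConv R A (p ^ m) a = z at h ⊢
    induction h using Submodule.span_induction with
    | mem x hx =>
      obtain ⟨b, rfl⟩ := hx
      rw [map_pow]
      have hb := powConv_prime_mem p (R := R) b
      generalize SGA3b.powConv R A p b = y at hb ⊢
      induction hb using Submodule.span_induction with
      | mem x hx =>
        obtain ⟨c, rfl⟩ := hx
        exact Submodule.subset_span ⟨c, pow_mul c p (p ^ m)⟩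
      | zero => rw [zero_pow (pow_ne_zero _ (Fact.out : p.Prime).ne_zero)]; exact zero_mem _
      | add x y _ _ hx hy => rw [add_pow_char_pow]; exact add_mem hx hy
      | smul r x _ hx => rw [smul_pow]; exact Submodule.smul_mem _ _ hx
    | zero => rw [map_zero]; exact zero_mem _
    | add x y _ _ hx hy => rw [map_add]; exact add_mem hx hy
    | smul r x _ hx => rw [map_smul]; exact Submodule.smul_mem _ _ hx

/-- If the `p ^ m`-th powers are scalars, `[p ^ m]` is trivial. -/
theorem powConv_eq_counit [CharP A p] (m : ℕ)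
    (h : ∀ a : A, a ^ p ^ m = algebraMap R A (Bialgebra.counitAlgHom R A a)) (a : A) :
    SGA3b.powConv R A (p ^ m) a = algebraMap R A (Bialgebra.counitAlgHom R A a) := by
  have hle : Submodule.span R (Set.range fun b : A => b ^ p ^ m) ≤ LinearMap.range (Algebra.linearMap R A) := by
    rw [Submodule.span_le]
    rintro _ ⟨b, rfl⟩
    exact ⟨_, (h b).symm⟩
  obtain ⟨r, hr⟩ := hle (powConv_pow_mem p m a)
  have hr : algebraMap R A r = SGA3b.powConv R A (p ^ m) a := hr
  have h2 := congrArg (Bialgebra.counitAlgHom R A) hr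
  rw [AlgHom.commutes, FinHopf.counit_powConv, Algebra.algebraMap_self, RingHom.id_apply] at h2
  rw [← hr, h2]

end Algebra

variable {k : Type u} [Field k] [Finite k]

/-- A finite commutative group scheme with trivial `q`-Frobenius is killed by `q`. -/
theorem pow_card_eq_one (G : Over (Spec (CommRingCat.of k))) [GrpObj G] [IsCommMonObj G] [IsFinite G.hom]
    {F : G ⟶ G} (hF : CogenLib.IsQFrob (Nat.card k) F.left) (hF1 : F = 1) : (𝟙 G) ^ Nat.card k = 1 := by
  haveI : IsAffine G.left := isAffine_of_isAffineHom G.hom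
  obtain ⟨H, ⟨e⟩⟩ := (essImage_hopfSpec (R := CommRingCat.of k) (G := Grp.mk G)).2 (inferInstanceAs (IsAffine G.left))
  let A : CommRingCat.{u} := CommRingCat.of H.unop
  letI : HopfAlgebra k A := H.unop.hopfAlgebra
  let SA := (Spec A).asOver (Spec (CommRingCat.of k))
  let f : SA ≅ G := (Grp.forget _).mapIso e
  haveI : IsMonHom f.hom := inferInstanceAs (IsMonHom e.hom.hom.hom)
  let Φ := Spec.mapMulEquiv (R := CommRingCat.of k) (S := A) (T := A)
  have hw : f.hom.left ≫ G.hom = Spec.map (CommRingCat.ofHom (algebraMap k A)) := Over.w f.hom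
  haveI : IsIso f.hom.left := inferInstanceAs (IsIso ((Over.forget _).map f.hom))
  have hfin : IsFinite (Spec.map (CommRingCat.ofHom (algebraMap k A))) :=
    hw ▸ (MorphismProperty.cancel_left_of_respectsIso @IsFinite f.hom.left G.hom).2 ‹_›
  haveI : Module.Finite k A := RingHom.finite_algebraMap.1 ((IsFinite.SpecMap_iff _).1 hfin)
  haveI : Coalgebra.IsCocomm k A := by
    constructor
    ext a
    let ι₁ : A →ₐ[k] A ⊗[k] A := Algebra.TensorProduct.includeLeft
    let ι₂ : A →ₐ[k] A ⊗[k] A := Algebra.TensorProduct.includeRight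
    let Ψ := Spec.mapMulEquiv (R := CommRingCat.of k) (S := A) (T := A ⊗[k] A)
    have hcomm : toConv ι₁ * toConv ι₂ = toConv ι₂ * toConv ι₁ := by
      refine Ψ.injective ((cancel_mono f.hom).1 ?_)
      simp only [map_mul, MonObj.mul_comp]
      exact mul_comm _ _
    have h := congrArg (fun F : WithConv (A →ₐ[k] A ⊗[k] A) => F.ofConv a) hcomm
    simp only [Comodule.lmul'_comp_map_incl] at h
    show TensorProduct.comm k A A (Coalgebra.comul (R := k) a) = Coalgebra.comul (R := k) a
    generalize Coalgebra.comul (R := k) a = z at h ⊢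
    have h1 : ∀ z : A ⊗[k] A, Algebra.TensorProduct.lmul' k (Algebra.TensorProduct.map ι₁ ι₂ z) = z := fun z => by
      induction z with
      | zero => simp
      | add x y hx hy => simp only [map_add, hx, hy]
      | tmul x y => simp [ι₁, ι₂]
    have h2 : ∀ z : A ⊗[k] A, Algebra.TensorProduct.lmul' k (Algebra.TensorProduct.map ι₂ ι₁ z) =
        TensorProduct.comm k A A z := fun z => by
      induction z with
      | zero => simp
      | add x y hx hy => simp only [map_add, hx, hy]
      | tmul x y => simp [ι₁, ι₂]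
    rw [h1, h2] at h
    exact h.symm
  haveI := Fintype.ofFinite k
  obtain ⟨p, hp⟩ := CharP.exists k
  haveI : Fact p.Prime := ⟨CharP.char_is_prime k p⟩
  obtain ⟨m, -, hm⟩ := FiniteField.card k p
  have hq : Nat.card k = p ^ (m : ℕ) := by rw [Nat.card_eq_fintype_card, hm]
  haveI : CharP A p := charP_of_injective_algebraMap
    (show Function.Injective (algebraMap k A) from fun a b h => by
      simpa using congrArg (Bialgebra.counitAlgHom k A) h) p
  -- the Frobenius of the coordinate ring
  obtain ⟨FA, hFA⟩ := CogenLib.exists_frobOver SA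
  have hFA1 : FA = 1 := by
    rw [← cancel_mono f.hom, CogenLib.comm_over hFA hF, hF1, MonObj.comp_one, MonObj.one_comp]
  obtain ⟨hb, hle, happ⟩ := hFA
  have hone : (1 : SA ⟶ SA).left = Spec.map (CommRingCat.ofHom
      ((algebraMap k A).comp (Bialgebra.counitAlgHom k A).toRingHom)) := by
    rw [← map_one Φ]
    rfl
  have hfrob : ∀ a : A, a ^ p ^ (m : ℕ) = algebraMap k A (Bialgebra.counitAlgHom k A a) := by
    intro a
    have h1 := happ ⊤ ((Scheme.ΓSpecIso A).inv a)
    have h2 : (FA.left.appLE ⊤ ⊤ (hle ⊤)).hom ((Scheme.ΓSpecIso A).inv a) =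
        (Scheme.ΓSpecIso A).inv (algebraMap k A (Bialgebra.counitAlgHom k A a)) := by
      subst hFA1
      have h3 : (1 : SA ⟶ SA).left.appLE ⊤ ⊤ (hle ⊤) = (1 : SA ⟶ SA).left.appTop :=
        (Scheme.Hom.app_eq_appLE _).symm
      rw [h3, hone]
      exact (ConcreteCategory.congr_hom (Scheme.ΓSpecIso_inv_naturality (CommRingCat.ofHom
        ((algebraMap k A).comp (Bialgebra.counitAlgHom k A).toRingHom))) a).symm
    rw [h2] at h1
    rw [← hq]
    exact (ConcreteCategory.bijective_of_isIso (Scheme.ΓSpecIso A).inv).1 ((map_pow _ _ _).trans h1.symm)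
  have hid : (𝟙 SA) ^ Nat.card k = 1 := by
    have h : (toConv (AlgHom.id k A)) ^ Nat.card k = 1 := by
      refine WithConv.ext (AlgHom.ext fun a => ?_)
      rw [hq]
      exact powConv_eq_counit p (m : ℕ) hfrob a
    have h' := congrArg Φ h
    rw [map_pow, map_one] at h'
    have e1 : Φ (toConv (AlgHom.id k A)) = 𝟙 SA := Over.OverMorphism.ext (Spec.map_id _)
    rwa [e1] at h'
  rw [← cancel_epi f.hom, MonObj.comp_pow, Category.comp_id, MonObj.comp_one, ← Category.id_comp f.hom,
    ← MonObj.pow_comp, hid, MonObj.one_comp]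

/-- `q` factors through Frobenius. -/
theorem exists_versch (X : Over (Spec (CommRingCat.of k))) [GrpObj X] [IsCommMonObj X]
    [IsProper X.hom] [GeometricallyIntegral X.hom] (π : X ⟶ X) [IsMonHom π]
    (hπ : CogenLib.IsQFrob (Nat.card k) π.left) :
    ∃ (v : X ⟶ X) (_ : IsMonHom v), π ≫ v = (𝟙 X) ^ Nat.card k ∧ v ≫ π = (𝟙 X) ^ Nat.card k := by
  haveI : Surjective π.left := ⟨fun y => ⟨y, congrArg (fun φ => φ y) hπ.choose⟩⟩
  obtain ⟨hfin, hflat⟩ := AVLib.isFinite_flat_of_surjective π rfl
  haveI := hfin
  haveI := hflat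
  let N := pullback π η[X]
  obtain ⟨hN, ha⟩ := GrpQuotLib.exists_grpObj_kernel π
  letI : GrpObj N := hN
  haveI := ha
  have hsq := GrpQuotLib.isPullback_left (IsPullback.of_hasPullback π η[X])
  have e : N.hom = hsq.isoPullback.hom ≫ pullback.snd π.left η[X].left := by
    rw [hsq.isoPullback_hom_snd, ← Over.w (pullback.snd π η[X])]
    exact Category.comp_id _
  haveI : IsFinite N.hom := by rw [e]; infer_instance
  let a : N ⟶ X := pullback.fst π η[X]
  haveI : IsMonHom a := ha
  haveI : Mono η[X] := ⟨fun a b _ => toUnit_unique a b⟩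
  haveI : Mono a := inferInstanceAs (Mono (pullback.fst π η[X]))
  haveI : Mono η[X] := ⟨fun a b _ => toUnit_unique a b⟩
  haveI : IsCommMonObj N := GrpInfLib.isCommMonObj_of_mono a
  have haπ : a ≫ π = 1 := by
    rw [Hom.one_def, toUnit_unique (toUnit N) (pullback.snd π η[X])]
    exact pullback.condition
  obtain ⟨FN, hFN⟩ := CogenLib.exists_frobOver N
  have hFN1 : FN = 1 := by
    rw [← cancel_mono a, CogenLib.comm_over hFN hπ, haπ, MonObj.one_comp]
  have hkill := pow_card_eq_one N hFN hFN1
  haveI : SchDesc.IsFpqc π.left := SchDesc.IsFpqc.of_quasiCompact π.left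
  haveI := GrpQuotLib.epi_of_isFpqc π
  haveI : IsMonHom ((𝟙 X) ^ Nat.card k) := GrpSchLib.isMonHom_pow (𝟙 X) _
  obtain ⟨v, hv⟩ := GrpQuotLib.exists_desc π ((𝟙 X) ^ Nat.card k) fun T s t hst => by
    have h1 : (s / t) ≫ π = 1 := by
      rw [div_eq_mul_inv, MonObj.mul_comp, GrpObj.inv_comp, hst, mul_inv_cancel]
    let z : T ⟶ N := pullback.lift (s / t) (toUnit T) (by rw [h1, Hom.one_def])
    have hz : z ≫ a = s / t := pullback.lift_fst _ _ _
    have h2 : z ^ Nat.card k = 1 := by
      rw [← Category.comp_id z, ← MonObj.comp_pow, hkill, MonObj.comp_one]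
    have h3 := congrArg (· ≫ a) h2
    simp only [MonObj.pow_comp, MonObj.one_comp, hz, div_pow, div_eq_one] at h3
    rw [MonObj.comp_pow, MonObj.comp_pow, Category.comp_id, Category.comp_id, h3]
  haveI hvm : IsMonHom v := by
    refine ⟨?_, ?_⟩
    · rw [← IsMonHom.one_hom π, Category.assoc, hv, IsMonHom.one_hom ((𝟙 X) ^ Nat.card k), IsMonHom.one_hom π]
    · haveI : Epi (π ⊗ₘ π) := by
        rw [MonoidalCategory.tensorHom_def]
        haveI := GrpQuotLib.isFpqc_whiskerRight π X
        haveI := GrpQuotLib.isFpqc_whiskerLeft π X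
        haveI := GrpQuotLib.epi_of_isFpqc (π ▷ X)
        haveI := GrpQuotLib.epi_of_isFpqc (X ◁ π)
        exact epi_comp _ _
      rw [← cancel_epi (π ⊗ₘ π), ← IsMonHom.mul_hom_assoc π, hv, IsMonHom.mul_hom ((𝟙 X) ^ Nat.card k),
        MonoidalCategory.tensorHom_comp_tensorHom_assoc, hv]
  refine ⟨v, hvm, hv, (cancel_epi π).1 ?_⟩
  rw [← Category.assoc, hv, MonObj.comp_pow, Category.comp_id, MonObj.pow_comp, Category.id_comp]

end Groth.Agent.WeilAVLib
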