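import Mathlib
import Groth.Prelude.Def_W4c1zetahwZeta
import Groth.Agent.S13050
import Groth.Agent.S13056

/-!
# The zeta function of a scheme with point counts `∏ (1 - α ^ m)`
-/

set_option autoImplicit false
set_option linter.style.haveILetI false

universe u

noncomputable section

open CategoryTheory AlgebraicGeometry

namespace Groth.Agent.WeilAVLib

/-- `∏ (1 - α_I X)` over the `j`-element sub-multisets. -/
def symProd {R : Type*} [CommRing R] (S : Multiset R) (j : ℕ) : Polynomial R :=
  ((S.powersetCard j).map (fun I => (1 : Polynomial R) - Polynomial.C I.prod * Polynomial.X)).prod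

theorem map_symProd {R R' : Type*} [CommRing R] [CommRing R'] (f : R →+* R') (S : Multiset R) (j : ℕ) :
    (symProd S j).map f = symProd (S.map f) j := by
  rw [symProd, Polynomial.map_multiset_prod, Multiset.map_map, symProd, Multiset.powersetCard_map, Multiset.map_map]
  congr 1
  refine Multiset.map_congr rfl fun I _ => ?_
  simp [map_multiset_prod, Polynomial.map_multiset_prod, Multiset.map_map, Function.comp_def]

/-- The products have integer coefficients. -/
theorem exists_symProd_int {P : Polynomial ℤ} (hP : P.Monic) (j : ℕ) :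
    ∃ Q : Polynomial ℤ, Q.map (Int.castRingHom ℂ) = symProd (P.map (Int.castRingHom ℂ)).roots j := by
  let L := (P.map (Int.castRingHom ℚ)).SplittingField
  let PL := P.map (Int.castRingHom L)
  have hPL : PL = (P.map (Int.castRingHom ℚ)).map (algebraMap ℚ L) := by
    rw [Polynomial.map_map]
    exact congrArg (fun f => P.map f) (RingHom.ext_int _ _)
  have hsp : PL.Splits := by
    rw [hPL]
    exact Polynomial.SplittingField.splits _
  have hmap : ∀ {M : Type} [Field M] (f : L →+* M), PL.roots.map f = (P.map (Int.castRingHom M)).roots := by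
    intro M _ f
    rw [Polynomial.roots_map_of_injective_of_card_eq_natDegree f.injective hsp.natDegree_eq_card_roots.symm,
      Polynomial.map_map]
    exact congrArg (fun g => (P.map g).roots) (RingHom.ext_int _ _)
  let σ : L →ₐ[ℚ] ℂ := IsAlgClosed.lift
  haveI : Polynomial.IsSplittingField ℚ L (P.map (Int.castRingHom ℚ)) := Polynomial.IsSplittingField.splittingField _
  haveI : Normal ℚ L := Normal.of_isSplittingField (P.map (Int.castRingHom ℚ))
  haveI : IsGalois ℚ L := ⟨⟩
  have hroot : ∀ a ∈ PL.roots, IsIntegral ℤ a := fun a ha => ⟨P, hP, by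
    rw [Polynomial.mem_roots (hP.map _).ne_zero, Polynomial.IsRoot, Polynomial.eval_map] at ha
    exact ha⟩
  have hint : ∀ c, IsIntegral ℤ ((symProd PL.roots j).coeff c) := by
    intro c
    let O := integralClosure ℤ L
    have h : symProd PL.roots j ∈ Polynomial.lifts (algebraMap O L) := by
      refine Submonoid.multiset_prod_mem (Polynomial.lifts (algebraMap O L)).toSubmonoid _ fun p hp => ?_
      obtain ⟨I, hI, rfl⟩ := Multiset.mem_map.1 hp
      have hI' : IsIntegral ℤ I.prod := IsIntegral.multiset_prod fun a ha =>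
        hroot a (Multiset.mem_of_le (Multiset.mem_powersetCard.1 hI).1 ha)
      exact ⟨1 - Polynomial.C (⟨I.prod, hI'⟩ : O) * Polynomial.X, by simp⟩
    obtain ⟨y, hy⟩ := (Polynomial.lifts_iff_coeff_lifts _).1 h c
    exact hy ▸ y.2
  have hZ : ∀ c, ∃ n : ℤ, (symProd PL.roots j).coeff c = (n : L) := by
    intro c
    have hfix : (symProd PL.roots j).coeff c ∈ (⊥ : IntermediateField ℚ L) := by
      rw [IsGalois.mem_bot_iff_fixed]
      intro g
      have h := congrArg (fun p => p.coeff c) (map_symProd (g.toRingEquiv.toRingHom) PL.roots j)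
      rw [hmap] at h
      simp only [Polynomial.coeff_map] at h
      exact h
    obtain ⟨r, hr⟩ := IntermediateField.mem_bot.1 hfix
    have hr' := hint c
    rw [← hr, isIntegral_algebraMap_iff (algebraMap ℚ L).injective] at hr'
    obtain ⟨n, hn⟩ := IsIntegrallyClosed.isIntegral_iff.1 hr'
    exact ⟨n, by rw [← hr, ← hn]; simp⟩
  refine (Polynomial.mem_lifts _).1 ((Polynomial.lifts_iff_coeff_lifts _).2 fun c => ?_)
  obtain ⟨n, hn⟩ := hZ c
  refine ⟨n, ?_⟩
  rw [← hmap σ.toRingHom, ← map_symProd, Polynomial.coeff_map, hn]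
  exact (map_intCast σ n).symm

/-- The logarithm of `∏ (1 - c X)`. -/
def logProd {K : Type*} [Field K] (T : Multiset K) : PowerSeries K :=
  PowerSeries.mk fun m : ℕ => -(T.map fun c => c ^ m).sum / (m : K)

theorem constantCoeff_logProd {K : Type*} [Field K] (T : Multiset K) : PowerSeries.constantCoeff (logProd T) = 0 := by
  rw [← PowerSeries.coeff_zero_eq_constantCoeff_apply, logProd, PowerSeries.coeff_mk]; simp

theorem logProd_cons {K : Type*} [Field K] (c : K) (T : Multiset K) : logProd (c ::ₘ T) = logProd {c} + logProd T := by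
  refine PowerSeries.ext fun m => ?_
  simp only [logProd, map_add, PowerSeries.coeff_mk, Multiset.map_cons, Multiset.sum_cons, Multiset.map_singleton,
    Multiset.sum_singleton]
  ring

theorem exp_add {K : Type*} [Field K] [CharZero K] {a b : PowerSeries K} (ha : PowerSeries.constantCoeff a = 0)
    (hb : PowerSeries.constantCoeff b = 0) :
    PowerSeries.subst (a + b) (PowerSeries.exp K) =
      PowerSeries.subst a (PowerSeries.exp K) * PowerSeries.subst b (PowerSeries.exp K) := by
  have c1 : ∀ {x : PowerSeries K}, PowerSeries.constantCoeff x = 0 →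
      PowerSeries.constantCoeff (PowerSeries.subst x (PowerSeries.exp K)) = 1 := by
    intro x hx
    rw [← PowerSeries.coeff_zero_eq_constantCoeff_apply,
      PowerSeries.coeff_subst' (PowerSeries.HasSubst.of_constantCoeff_zero' hx), finsum_eq_single _ 0]
    · simp
    · intro d hd
      rw [PowerSeries.coeff_zero_eq_constantCoeff_apply, map_pow, hx, zero_pow hd, smul_zero]
  have d1 : ∀ {x : PowerSeries K}, PowerSeries.constantCoeff x = 0 →
      PowerSeries.derivative K (PowerSeries.subst x (PowerSeries.exp K)) =
        PowerSeries.subst x (PowerSeries.exp K) * PowerSeries.derivative K x := by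
    intro x hx
    rw [PowerSeries.derivative_subst (PowerSeries.HasSubst.of_constantCoeff_zero' hx), PowerSeries.derivative_exp]
  have hab : PowerSeries.constantCoeff (a + b) = 0 := by rw [map_add, ha, hb, add_zero]
  have hne : PowerSeries.constantCoeff (PowerSeries.subst (a + b) (PowerSeries.exp K)) ≠ 0 := by
    rw [c1 hab]; exact one_ne_zero
  have hQ : PowerSeries.subst a (PowerSeries.exp K) * PowerSeries.subst b (PowerSeries.exp K) *
      (PowerSeries.subst (a + b) (PowerSeries.exp K))⁻¹ = 1 := by
    refine PowerSeries.derivative.ext ?_ ?_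
    · rw [Derivation.leibniz, Derivation.leibniz, PowerSeries.derivative_inv', d1 ha, d1 hb, d1 hab,
        Derivation.map_one_eq_zero, map_add, smul_eq_mul, smul_eq_mul, smul_eq_mul, smul_eq_mul]
      have h : PowerSeries.subst (a + b) (PowerSeries.exp K) * (PowerSeries.subst (a + b) (PowerSeries.exp K))⁻¹ = 1 :=
        PowerSeries.mul_inv_cancel _ hne
      linear_combination (-(PowerSeries.subst a (PowerSeries.exp K) * PowerSeries.subst b (PowerSeries.exp K) *
        (PowerSeries.derivative K a + PowerSeries.derivative K b) *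
        (PowerSeries.subst (a + b) (PowerSeries.exp K))⁻¹)) * h
    · rw [map_mul, map_mul, PowerSeries.constantCoeff_inv, c1 ha, c1 hb, c1 hab, map_one, inv_one, mul_one, mul_one]
  exact ((PowerSeries.eq_mul_inv_iff_mul_eq hne).1 hQ.symm).symm.trans (one_mul _) |>.symm

theorem exp_zero' {K : Type*} [Field K] [CharZero K] :
    PowerSeries.subst (0 : PowerSeries K) (PowerSeries.exp K) = 1 := by
  refine PowerSeries.derivative.ext ?_ ?_
  · rw [PowerSeries.derivative_subst (PowerSeries.HasSubst.of_constantCoeff_zero' (map_zero _)), map_zero, mul_zero,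
      Derivation.map_one_eq_zero]
  · rw [← PowerSeries.coeff_zero_eq_constantCoeff_apply,
      PowerSeries.coeff_subst' (PowerSeries.HasSubst.of_constantCoeff_zero' (map_zero _)), finsum_eq_single _ 0]
    · simp
    · intro d hd
      rw [zero_pow hd, map_zero, smul_zero]

theorem exp_logProd (T : Multiset ℂ) :
    PowerSeries.subst (logProd T) (PowerSeries.exp ℂ) =
      (((T.map fun c => (1 : Polynomial ℂ) - Polynomial.C c * Polynomial.X).prod : Polynomial ℂ) : PowerSeries ℂ) := by
  induction T using Multiset.induction_on with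
  | empty =>
    rw [show logProd (0 : Multiset ℂ) = 0 from PowerSeries.ext fun m => by simp [logProd], exp_zero']
    simp
  | cons c T ih =>
    rw [logProd_cons, exp_add (constantCoeff_logProd _) (constantCoeff_logProd _), ih, Multiset.map_cons,
      Multiset.prod_cons, Polynomial.coe_mul]
    congr 1
    let M : Matrix (Fin 1) (Fin 1) ℂ := Matrix.of fun _ _ => c
    have hM : ∀ m : ℕ, Matrix.trace (M ^ m) = c ^ m := fun m => by
      induction m with
      | zero => simp
      | succ m ihm =>
        simp [Matrix.trace, Matrix.diag, pow_succ, Matrix.mul_apply] at ihm ⊢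
        rw [ihm]; rfl
    have h1 : (1 : Polynomial ℂ) - Polynomial.C c * Polynomial.X = M.charpolyRev := by
      rw [Matrix.charpolyRev, Matrix.det_fin_one]
      simp [M]
    rw [h1, Groth.Agent.S13056.result M]
    congr 1
    refine PowerSeries.ext fun m => ?_
    simp [logProd, hM]

theorem prod_one_sub_eq (S : Multiset ℂ) (m : ℕ) :
    (S.map fun a => 1 - a ^ m).prod =
      ∑ j ∈ Finset.range (S.card + 1), (-1 : ℂ) ^ j * ((S.powersetCard j).map fun I => I.prod ^ m).sum := by
  have h := congrArg (Polynomial.eval 1) (Multiset.prod_X_add_C_eq_sum_esymm ((S.map fun a => a ^ m).map Neg.neg))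
  rw [Polynomial.eval_multiset_prod, Multiset.map_map, Multiset.map_map, Multiset.map_map, Polynomial.eval_finset_sum,
    Multiset.card_map, Multiset.card_map] at h
  refine Eq.trans ?_ (h.trans (Finset.sum_congr rfl fun j _ => ?_))
  · congr 1
    exact Multiset.map_congr rfl fun a _ => by simp [sub_eq_add_neg]
  rw [Multiset.esymm_neg, Polynomial.eval_mul, Polynomial.eval_C, Polynomial.eval_pow, Polynomial.eval_X, one_pow,
    mul_one, Multiset.esymm, Multiset.powersetCard_map, Multiset.map_map]
  congr 2
  refine Multiset.map_congr rfl fun I _ => ?_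
  exact (Multiset.prod_map_pow).trans (by rw [Multiset.map_id'])

variable {k : Type u} [Field k] [Finite k]

/-- Extensions of every degree. -/
theorem exists_ext (n : ℕ) (hn : n ≠ 0) :
    ∃ (k' : Type u) (_ : Field k') (_ : Algebra k k'), Finite k' ∧ Module.finrank k k' = n := by
  obtain ⟨p, hp⟩ := CharP.exists k
  haveI : Fact p.Prime := ⟨CharP.char_is_prime k p⟩
  haveI : NeZero n := ⟨hn⟩
  refine ⟨ULift.{u} (FiniteField.Extension k p n), inferInstance, inferInstance, inferInstance, ?_⟩
  rw [LinearEquiv.finrank_eq (ULift.moduleEquiv : ULift.{u} (FiniteField.Extension k p n) ≃ₗ[k] _),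
    FiniteField.finrank_extension]

theorem zeta_eq {X : Scheme.{u}} (f : X ⟶ Spec (CommRingCat.of k)) (S : Multiset ℂ)
    (hN : ∀ m : ℕ, 1 ≤ m → (Zeta.nPts f m : ℂ) = (S.map fun a => 1 - a ^ m).prod) :
    (Zeta.zetaFun f).map (algebraMap ℚ ℂ) *
        ∏ j ∈ (Finset.range (S.card + 1)).filter (fun j => Even j), ((symProd S j : Polynomial ℂ) : PowerSeries ℂ) =
      ∏ j ∈ (Finset.range (S.card + 1)).filter (fun j => Odd j), ((symProd S j : Polynomial ℂ) : PowerSeries ℂ) := by
  classical
  let L : ℕ → PowerSeries ℂ := fun j => logProd ((S.powersetCard j).map Multiset.prod)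
  have hL0 : ∀ j, PowerSeries.constantCoeff (L j) = 0 := fun j => constantCoeff_logProd _
  have hprod : ∀ s : Finset ℕ, ∏ j ∈ s, ((symProd S j : Polynomial ℂ) : PowerSeries ℂ) =
      PowerSeries.subst (∑ j ∈ s, L j) (PowerSeries.exp ℂ) := by
    intro s
    induction s using Finset.induction_on with
    | empty => rw [Finset.prod_empty, Finset.sum_empty, exp_zero']
    | insert i s hi ih =>
      rw [Finset.prod_insert hi, Finset.sum_insert hi, exp_add (hL0 i)
        (by rw [map_sum]; exact Finset.sum_eq_zero fun j _ => hL0 j), ← ih]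
      congr 1
      show _ = PowerSeries.subst (logProd _) _
      rw [exp_logProd, symProd, Multiset.map_map]
      rfl
  have hlogQ : PowerSeries.constantCoeff (Zeta.logZeta f) = 0 := by
    rw [← PowerSeries.coeff_zero_eq_constantCoeff_apply, Zeta.logZeta, PowerSeries.coeff_mk]; simp
  have hlog0 : PowerSeries.constantCoeff (PowerSeries.map (algebraMap ℚ ℂ) (Zeta.logZeta f)) = 0 := by
    rw [← PowerSeries.coeff_zero_eq_constantCoeff_apply, PowerSeries.coeff_map,
      PowerSeries.coeff_zero_eq_constantCoeff_apply, hlogQ, map_zero]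
  have hmap : PowerSeries.map (algebraMap ℚ ℂ) (Zeta.zetaFun f) =
      PowerSeries.subst (PowerSeries.map (algebraMap ℚ ℂ) (Zeta.logZeta f)) (PowerSeries.exp ℂ) := by
    rw [Zeta.zetaFun]
    refine (PowerSeries.map_subst (PowerSeries.HasSubst.of_constantCoeff_zero' hlogQ) _).trans ?_
    rw [PowerSeries.map_exp]
    rfl
  rw [hprod, hprod, hmap, ← exp_add hlog0 (by rw [map_sum]; exact Finset.sum_eq_zero fun j _ => hL0 j)]
  congr 1
  refine PowerSeries.ext fun m => ?_
  rcases m with _ | m
  · simp only [PowerSeries.coeff_zero_eq_constantCoeff_apply, map_add, map_sum, hL0, hlog0, Finset.sum_const_zero,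
      add_zero]
  have h := hN (m + 1) (Nat.succ_pos m)
  rw [prod_one_sub_eq, ← Finset.sum_filter_add_sum_filter_not (Finset.range (S.card + 1)) (fun j => Even j)] at h
  simp only [map_add, map_sum, PowerSeries.coeff_map, Zeta.logZeta, L, logProd, PowerSeries.coeff_mk, Multiset.map_map,
    Function.comp_def, map_div₀, map_natCast, neg_div, Finset.sum_neg_distrib, ← Finset.sum_div]
  rw [Finset.sum_congr rfl (s₁ := (Finset.range (S.card + 1)).filter fun j => Even j)
      (g := fun j => ((S.powersetCard j).map fun I => I.prod ^ (m + 1)).sum)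
      (fun j hj => by rw [(Finset.mem_filter.1 hj).2.neg_one_pow, one_mul]),
    Finset.filter_congr (q := fun j => Odd j) (fun j _ => Nat.not_even_iff_odd),
    Finset.sum_congr rfl (s₁ := (Finset.range (S.card + 1)).filter fun j => Odd j)
      (g := fun j => -((S.powersetCard j).map fun I => I.prod ^ (m + 1)).sum)
      (fun j hj => by rw [(Finset.mem_filter.1 hj).2.neg_one_pow, neg_one_mul]), Finset.sum_neg_distrib] at h
  rw [h]
  ring

end Groth.Agent.WeilAVLib
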