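import Mathlib

/-!
# The functional equation of the alternating product of exterior powers
-/

set_option autoImplicit false

open Polynomial Multiset

namespace Groth.Agent.WeilAVLib

variable {F : Type*} [Field F]

/-- Passing to complements. -/
theorem map_prod_compl : ∀ (S : Multiset F), (0 : F) ∉ S → ∀ j, j ≤ Multiset.card S →
    (S.powersetCard j).map Multiset.prod =
      (S.powersetCard (Multiset.card S - j)).map (fun J => S.prod / J.prod) := by
  intro S
  induction S using Multiset.induction_on with
  | empty => intro _ j hj; simp at hj; subst hj; simp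
  | cons a S ih =>
    intro h0 j hj
    rw [Multiset.mem_cons, not_or] at h0
    have ha : a ≠ 0 := Ne.symm h0.1
    have hP : S.prod ≠ 0 := Multiset.prod_ne_zero h0.2
    rw [Multiset.card_cons] at hj ⊢
    rcases j with _ | j
    · rw [Nat.sub_zero, Multiset.powersetCard_zero_left, Multiset.powersetCard_cons,
        Multiset.powersetCard_eq_empty _ (by omega), zero_add]
      have e := ih h0.2 0 (Nat.zero_le _)
      rw [Nat.sub_zero, Multiset.powersetCard_zero_left] at e
      rw [Multiset.map_map, e]
      refine Multiset.map_congr rfl fun J _ => ?_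
      simp only [Function.comp_apply, Multiset.prod_cons]
      rw [mul_div_mul_left _ _ ha]
    · have hj' : j ≤ Multiset.card S := by omega
      rw [show Multiset.card S + 1 - (j + 1) = Multiset.card S - j by omega, Multiset.powersetCard_cons,
        Multiset.map_add, Multiset.map_map]
      have h2 : (S.powersetCard j).map (Multiset.prod ∘ Multiset.cons a) =
          (S.powersetCard (Multiset.card S - j)).map (fun J => a * S.prod / J.prod) := by
        have e := congrArg (Multiset.map (a * ·)) (ih h0.2 j hj')
        rw [Multiset.map_map, Multiset.map_map] at e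
        convert e using 1
        · exact Multiset.map_congr rfl fun J _ => by simp
        · exact Multiset.map_congr rfl fun J _ => by simp [mul_div_assoc]
      rw [h2, Multiset.prod_cons]
      rcases Nat.eq_zero_or_pos (Multiset.card S - j) with hz | hz
      · rw [hz, Multiset.powersetCard_eq_empty (j + 1) (by omega), Multiset.powersetCard_zero_left,
          Multiset.powersetCard_zero_left, Multiset.map_zero, zero_add]
      · obtain ⟨i, hi⟩ : ∃ i, Multiset.card S - j = i + 1 := ⟨Multiset.card S - j - 1, by omega⟩
        have h1 := ih h0.2 (j + 1) (by omega)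
        rw [show Multiset.card S - (j + 1) = i by omega] at h1
        rw [hi, h1, Multiset.powersetCard_cons i a S, Multiset.map_add, Multiset.map_map, add_comm]
        congr 1
        refine Multiset.map_congr rfl fun J _ => ?_
        simp only [Function.comp_apply, Multiset.prod_cons]
        rw [mul_div_mul_left _ _ ha]

/-- The alternating product of all `x α_J`. -/
noncomputable def altProd (S : Multiset F) (x : F) : F :=
  ∏ i ∈ Finset.range (Multiset.card S + 1), ((S.powersetCard i).map fun J => x * J.prod).prod ^ ((-1 : ℤ) ^ (i + 1))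

theorem altProd_cons (a : F) (S : Multiset F) (x : F) :
    altProd (a ::ₘ S) x = altProd S x / altProd S (x * a) := by
  have key : ∀ i, (((a ::ₘ S).powersetCard (i + 1)).map fun J => x * J.prod).prod =
      ((S.powersetCard (i + 1)).map fun J => x * J.prod).prod * ((S.powersetCard i).map fun J => x * a * J.prod).prod := by
    intro i
    rw [Multiset.powersetCard_cons, Multiset.map_add, Multiset.prod_add, Multiset.map_map]
    congr 2
    exact Multiset.map_congr rfl fun J _ => by simp [mul_assoc]
  rw [altProd, altProd, altProd, Multiset.card_cons, Finset.prod_range_succ']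
  simp only [key, mul_zpow, Finset.prod_mul_distrib]
  rw [Finset.prod_range_succ' (fun i => ((S.powersetCard i).map fun J => x * J.prod).prod ^ ((-1 : ℤ) ^ (i + 1))),
    Finset.prod_range_succ (fun i => ((S.powersetCard (i + 1)).map fun J => x * J.prod).prod ^ ((-1 : ℤ) ^ (i + 1 + 1))),
    Multiset.powersetCard_eq_empty (Multiset.card S + 1) (Nat.lt_succ_self _)]
  simp only [Multiset.map_zero, Multiset.prod_zero, one_zpow, mul_one, Multiset.powersetCard_zero_left]
  rw [div_eq_mul_inv, ← Finset.prod_inv_distrib, mul_right_comm]
  congr 1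
  refine Finset.prod_congr rfl fun i _ => ?_
  rw [← zpow_neg, pow_succ, mul_neg_one]

theorem altProd_eq_one {S : Multiset F} (h0 : (0 : F) ∉ S) (hS : 2 ≤ Multiset.card S) {x : F} (hx : x ≠ 0) :
    altProd S x = 1 := by
  induction S using Multiset.induction_on generalizing x with
  | empty => simp at hS
  | cons a S ih =>
    rw [Multiset.mem_cons, not_or] at h0
    have ha : a ≠ 0 := Ne.symm h0.1
    rw [altProd_cons]
    rcases Nat.lt_or_ge (Multiset.card S) 2 with h | h
    · rw [Multiset.card_cons] at hS
      obtain ⟨b, rfl⟩ := Multiset.card_eq_one.1 (show Multiset.card S = 1 by omega)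
      have hb : b ≠ 0 := fun e => h0.2 (by simp [e])
      have e : ∀ y : F, y ≠ 0 → altProd ({b} : Multiset F) y = b := fun y hy => by
        rw [← Multiset.cons_zero, altProd_cons]
        simp [altProd, hy, hb]
        field_simp
      rw [e x hx, e _ (mul_ne_zero hx ha), div_self hb]
    · rw [ih h0.2 h hx, ih h0.2 h (mul_ne_zero hx ha), div_one]

/-- The polynomial attached to an exterior power. -/
noncomputable def extPoly (S : Multiset F) (j : ℕ) (t : F) : F :=
  Polynomial.eval t ((S.powersetCard j).map (fun I => (1 : Polynomial F) - Polynomial.C I.prod * Polynomial.X)).prod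

theorem funEq {S : Multiset F} (h0 : (0 : F) ∉ S) {n : ℕ} (hn : Multiset.card S = n) (hev : Even n) (h2 : 2 ≤ n)
    {t : F} (ht : t ≠ 0) :
    ∏ j ∈ Finset.range (n + 1), extPoly S j ((S.prod * t)⁻¹) ^ ((-1 : ℤ) ^ (j + 1)) =
      ∏ j ∈ Finset.range (n + 1), extPoly S j t ^ ((-1 : ℤ) ^ (j + 1)) := by
  subst hn
  set n := Multiset.card S
  have hP : S.prod ≠ 0 := Multiset.prod_ne_zero h0
  have hev' : ∀ (j : ℕ) (y : F), extPoly S j y = ((S.powersetCard j).map fun I => 1 - I.prod * y).prod := by
    intro j y
    rw [extPoly, Polynomial.eval_multiset_prod, Multiset.map_map]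
    exact congrArg Multiset.prod (Multiset.map_congr rfl fun I _ => by simp)
  have key : ∀ j ∈ Finset.range (n + 1), extPoly S j ((S.prod * t)⁻¹) =
      (((S.powersetCard (n - j)).map fun J => (-t) * J.prod).prod)⁻¹ * extPoly S (n - j) t := by
    intro j hj
    rw [Finset.mem_range] at hj
    rw [hev', hev', ← Multiset.prod_map_inv', Multiset.map_map, ← Multiset.prod_map_mul]
    have e := congrArg (Multiset.map fun v => 1 - v * (S.prod * t)⁻¹) (map_prod_compl S h0 j (by omega))
    rw [Multiset.map_map, Multiset.map_map] at e
    refine (congrArg Multiset.prod e).trans (congrArg Multiset.prod (Multiset.map_congr rfl fun J hJ => ?_))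
    have hJ0 : J.prod ≠ 0 := Multiset.prod_ne_zero fun h => h0 (Multiset.mem_of_le (Multiset.mem_powersetCard.1 hJ).1 h)
    simp only [Function.comp_apply, neg_mul]
    field_simp
    ring
  rw [Finset.prod_congr rfl fun j hj => by rw [key j hj]]
  have hsign : ∀ j ∈ Finset.range (n + 1), ((-1 : ℤ) ^ (j + 1)) = (-1) ^ (n - j + 1) := by
    intro j hj
    rw [Finset.mem_range] at hj
    rw [pow_succ, pow_succ]
    congr 1
    refine mul_right_cancel₀ (pow_ne_zero j (show (-1 : ℤ) ≠ 0 by norm_num)) ?_
    rw [← pow_add, ← pow_add, Nat.sub_add_cancel (by omega), hev.neg_one_pow, Even.neg_one_pow ⟨j, rfl⟩]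
  rw [Finset.prod_congr rfl fun j hj => by rw [hsign j hj]]
  have e := Finset.prod_range_reflect (fun i => ((((S.powersetCard i).map fun J => (-t) * J.prod).prod)⁻¹ * extPoly S i t) ^
      ((-1 : ℤ) ^ (i + 1))) (n + 1)
  simp only [Nat.add_sub_cancel] at e
  rw [e]
  simp only [mul_zpow, inv_zpow, Finset.prod_mul_distrib, Finset.prod_inv_distrib]
  have h1 := altProd_eq_one h0 h2 (neg_ne_zero.2 ht)
  rw [altProd] at h1
  rw [h1, inv_one, one_mul]

end Groth.Agent.WeilAVLib
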