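import Groth.Agent.WeilAVLib.Pos
import Groth.Agent.CogenLib.Basic

/-!
# The quadratic form attached to a symmetric ample class is positive definite
-/

set_option autoImplicit false
set_option backward.isDefEq.respectTransparency false
set_option linter.style.haveILetI false
set_option synthInstance.maxHeartbeats 400000
set_option maxHeartbeats 1000000

universe u

open CategoryTheory CategoryTheory.Limits MonoidalCategory CartesianMonoidalCategory MonObj AlgebraicGeometry
open Groth.Agent.PicLib (Pic cls exists_cls pull pull_cls)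
open Groth.Agent.DegPolyLib (bil bilHom phi phi_inv degE deg deg_eq_zero_iff degE_intCast degE_mul)

noncomputable section

namespace Groth.Agent.WeilAVLib

variable {K : Type u} [Field K] {A : Over (Spec (CommRingCat.of K))} [GrpObj A] [IsCommMonObj A]
  [IsProper A.hom] [GeometricallyIntegral A.hom]

omit [IsCommMonObj A] [GeometricallyIntegral A.hom] in
theorem topA_perm {g : ℕ} (c : Fin g → Pic A.left) (σ : Equiv.Perm (Fin g)) :
    topA A (fun i => c (σ i)) = topA A c := by
  simp only [topA, DegPolyLib.top]
  rw [Equiv.prod_comp σ fun i => DegPolyLib.c1 (c i)]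

omit [IsCommMonObj A] [GeometricallyIntegral A.hom] in
theorem topA_update_const {g : ℕ} (a c : Pic A.left) (i j : Fin g) :
    topA A (Function.update (fun _ => c) i a) = topA A (Function.update (fun _ => c) j a) := by
  rw [← topA_perm (Function.update (fun _ => c) j a) (Equiv.swap i j)]
  congr 1
  funext k
  rcases eq_or_ne k i with rfl | hi
  · simp
  · rw [Function.update_of_ne hi]
    rcases eq_or_ne k j with rfl | hj
    · rw [Equiv.swap_apply_right, Function.update_of_ne hi.symm]
    · rw [Equiv.swap_apply_of_ne_of_ne hi hj, Function.update_of_ne hj]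

theorem parallelogram {c : Pic A.left} (hc : pull ((𝟙 A)⁻¹).left c = c) (e f : EndAV.End A) :
    pull (EndAV.End.toHom (e + f)).left c * pull (EndAV.End.toHom (e - f)).left c =
      (pull e.toHom.left c * pull f.toHom.left c) ^ 2 := by
  have h : bil c e.toHom f.toHom⁻¹ = (bil c e.toHom f.toHom)⁻¹ :=
    ((bilHom c) (Additive.ofMul e.toHom)).map_neg (Additive.ofMul f.toHom)
  rw [bil, bil, phi_inv c hc, ← EndAV.End.toHom_neg, ← EndAV.End.toHom_add, ← EndAV.End.toHom_add,
    ← sub_eq_add_neg, inv_div, div_eq_div_iff_mul_eq_mul] at h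
  simp only [phi] at h
  rw [pow_two, mul_comm]
  exact h

variable {g : ℕ} (hA : topologicalKrullDim A.left = g)

include hA

omit [IsCommMonObj A] in
theorem topA_update_pow (a c : Pic A.left) (i : Fin g) (m n : ℕ) :
    topA A (Function.update (fun _ => c ^ m) i (a ^ n)) =
      (n : ℤ) * (m : ℤ) ^ (g - 1) * topA A (Function.update (fun _ => c) i a) := by
  letI := DegPolyLib.overStr A
  haveI : IsProper (A.left ↘ Spec (CommRingCat.of K)) := ‹IsProper A.hom›
  classical
  have h := (DegPolyLib.topForm (X := A.left) K g hA.le).map_smul_univ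
    (fun j => if j = i then (n : ℤ) else (m : ℤ))
    (fun j => if j = i then Additive.ofMul a else Additive.ofMul c)
  have e1 : ∏ j, (if j = i then (n : ℤ) else (m : ℤ)) = (n : ℤ) * (m : ℤ) ^ (g - 1) := by
    rw [← Finset.mul_prod_erase _ _ (Finset.mem_univ i), if_pos rfl,
      Finset.prod_congr rfl (fun j hj => if_neg (Finset.ne_of_mem_erase hj)), Finset.prod_const,
      Finset.card_erase_of_mem (Finset.mem_univ i), Finset.card_univ, Fintype.card_fin]
  have e2 : (fun j => ((if j = i then (n : ℤ) else (m : ℤ)) • (if j = i then Additive.ofMul a else Additive.ofMul c)).toMul) =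
      Function.update (fun _ => c ^ m) i (a ^ n) := by
    funext j
    rcases eq_or_ne j i with rfl | hj
    · simp
    · simp [hj]
  have e3 : (fun j => (if j = i then Additive.ofMul a else Additive.ofMul c).toMul) = Function.update (fun _ => c) i a := by
    funext j
    rcases eq_or_ne j i with rfl | hj
    · simp
    · simp [hj]
  rw [DegPolyLib.topForm_apply, DegPolyLib.topForm_apply, e1, e2, e3, smul_eq_mul] at h
  exact h

theorem isFinite_of_degE_ne_zero {φ : EndAV.End A} (h : degE φ ≠ 0) : IsFinite φ.toHom.left := by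
  by_contra hf
  exact h ((deg_eq_zero_iff hA hA _).2 hf)

/-- The form is positive definite. -/
theorem slot_pos {c : Pic A.left} (hc : IsSA c) (i : Fin g) {φ : EndAV.End A} (hφ : φ ≠ 0) :
    0 < topA A (Function.update (fun _ => c) i (pull φ.toHom.left c)) := by
  classical
  haveI : Module.Free ℤ (EndAV.End A) := (AVHomLib.finite_hom A A).2
  have hnn : ∀ y : Fin g → Pic A.left, (∀ j, y j ∈ Sem A) → 0 ≤ topA A y := topA_nonneg hA
  have hupd : ∀ (w : Fin g → Pic A.left) (j : Fin g) (a : Pic A.left), (∀ k, w k ∈ Sem A) → a ∈ Sem A →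
      ∀ k, Function.update w j a k ∈ Sem A := by
    intro w j a hw ha k
    rcases eq_or_ne k j with rfl | hk
    · rwa [Function.update_self]
    · rw [Function.update_of_ne hk]; exact hw k
  by_contra hle
  have h0 : topA A (Function.update (fun _ => c) i (pull φ.toHom.left c)) = 0 :=
    le_antisymm (not_lt.1 hle) (hnn _ (hupd _ i _ (fun _ => hc.mem_Sem) (pull_mem_Sem φ hc)))
  obtain ⟨ψ, n, hn, hψ⟩ := PoincareLib.exists_quasi_inverse A φ
  set e : EndAV.End A := ψ * φ with he
  have hee : e * e = (n : EndAV.End A) * e := by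
    rw [he, _root_.mul_assoc, ← _root_.mul_assoc φ, hψ, mul_smul_comm, nsmul_eq_mul]
  have he0 : e ≠ 0 := fun h => by
    have h1 : (n : ℤ) • φ = 0 := by rw [natCast_zsmul, ← hψ, _root_.mul_assoc, ← he, h, mul_zero]
    rcases smul_eq_zero.1 h1 with h2 | h2
    · omega
    · exact hφ h2
  obtain ⟨m₁, hm₁, hd⟩ := hc.exists_pow_div (symm_pull hc.symm ψ)
  have ha0 : topA A (Function.update (fun _ => c) i (pull e.toHom.left c)) = 0 := by
    refine le_antisymm ?_ (hnn _ (hupd _ i _ (fun _ => hc.mem_Sem) (pull_mem_Sem e hc)))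
    have h1 := hnn _ (hupd _ i _ (fun _ => hc.mem_Sem) (pull_mem_Sem φ hd))
    rw [map_div, map_pow, ← PicLib.pull_comp, ← Over.comp_left, ← EndAV.End.toHom_mul, ← he,
      ← slot_apply hA, ofMul_div, ofMul_pow, map_sub, map_nsmul, slot_apply, slot_apply, h0, smul_zero, zero_sub] at h1
    linarith
  set f : EndAV.End A := (n : EndAV.End A) - e with hf
  have hef : e * f = 0 := by rw [hf, mul_sub, hee, (Nat.commute_cast e n).eq, sub_self]
  have hn0 : degE ((n : ℕ) : EndAV.End A) ≠ 0 := fun h => by
    have h1 := degE_intCast hA (n : ℤ)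
    rw [Int.cast_natCast, h] at h1
    exact pow_ne_zero _ (by exact_mod_cast (show n ≠ 0 by omega)) h1.symm
  have hw : (e - f) * (e - f) = ((n : ℕ) : EndAV.End A) * (n : EndAV.End A) := by
    rw [hf]
    simp only [mul_sub, sub_mul, hee, (Nat.commute_cast e n).eq]
    abel
  have hwf : degE (e - f) ≠ 0 := fun h => by
    have h1 := degE_mul hA (e - f) (e - f)
    rw [hw, degE_mul hA, h, mul_zero] at h1
    exact hn0 (mul_self_eq_zero.1 h1)
  have hff : ¬ IsFinite f.toHom.left := fun h => he0 (by
    haveI := h
    haveI := AVLib.surjective_of_isFinite f.toHom rfl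
    refine EndAV.End.ext (CogenLib.cancel_of_surjective f.toHom ?_)
    rw [← EndAV.End.toHom_mul, hef, EndAV.End.toHom_zero, MonObj.comp_one])
  set a := pull e.toHom.left c with hadef
  set b := pull f.toHom.left c with hbdef
  have hH : IsSA (a ^ 2 * b ^ 2) := by
    rw [← mul_pow, hadef, hbdef, ← parallelogram hc.symm, show e + f = (n : EndAV.End A) from by rw [hf]; abel]
    exact (hc.pull_finite _ (isFinite_of_degE_ne_zero hA hn0)).mul (hc.pull_finite _ (isFinite_of_degE_ne_zero hA hwf))
  have haS : a ^ 2 ∈ Sem A := Submonoid.pow_mem _ (pull_mem_Sem e hc) 2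
  have hbS : b ^ 2 ∈ Sem A := Submonoid.pow_mem _ (pull_mem_Sem f hc) 2
  obtain ⟨M, hM, hC⟩ := hc.exists_pow_div hH.symm
  have hMS : c ^ M ∈ Sem A := Submonoid.pow_mem _ hc.mem_Sem M
  have key : ∀ s : Finset (Fin g), topA A (fun j => if j ∈ s then a ^ 2 * b ^ 2 else b ^ 2) = 0 := by
    intro s
    induction s using Finset.induction with
    | empty =>
      simp only [Finset.notMem_empty, if_false, hbdef, ← map_pow]
      exact topA_const_pull_of_not_finite hA f hff (c ^ 2)
    | insert j s hj ih =>
      set w : Fin g → Pic A.left := fun k => if k ∈ s then a ^ 2 * b ^ 2 else b ^ 2 with hw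
      have hwS : ∀ k, w k ∈ Sem A := fun k => by
        dsimp only [w]; split_ifs; exacts [Submonoid.mul_mem _ haS hbS, hbS]
      have e1 : (fun k => if k ∈ insert j s then a ^ 2 * b ^ 2 else b ^ 2) = Function.update w j (a ^ 2 * b ^ 2) := by
        funext k
        rcases eq_or_ne k j with rfl | hk
        · simp
        · simp [hw, hk]
      have e2 : Function.update w j (b ^ 2) = w := Function.update_eq_self_iff.2 (by simp [hw, hj])
      rw [e1, topA_update_mul hA, e2, ih, add_zero]
      refine le_antisymm ?_ (hnn _ (hupd _ j _ hwS haS))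
      refine le_trans (topA_mono hA _ (Function.update (fun _ => c ^ M) j (a ^ 2)) (hupd _ j _ hwS haS)
        (hupd _ j _ (fun _ => hMS) haS) fun k => ?_) (le_of_eq ?_)
      · rcases eq_or_ne k j with rfl | hk
        · rw [Function.update_self, Function.update_self, div_self']; exact Submonoid.one_mem _
        · rw [Function.update_of_ne hk, Function.update_of_ne hk]
          dsimp only [w]
          split_ifs
          · exact hC.mem_Sem
          · rw [show c ^ M / b ^ 2 = c ^ M / (a ^ 2 * b ^ 2) * a ^ 2 from by rw [div_mul_eq_div_div_swap, div_mul_cancel]]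
            exact Submonoid.mul_mem _ hC.mem_Sem haS
      · rw [topA_update_pow hA, topA_update_const a c j i, ha0, mul_zero]
  have hlast := key Finset.univ
  simp only [Finset.mem_univ, if_true] at hlast
  exact (topA_pos_of_ample hA _ fun _ => hH.ample).ne' hlast

end Groth.Agent.WeilAVLib
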