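import Groth.Agent.DegPolyLib.EndDeg
import Groth.Agent.PoincareLib.Semisimple
import Groth.Agent.AVHomLib.End0
import Groth.Agent.AmpleEmb.SectionsGe

/-!
# Positivity of intersection numbers of inverse images of symmetric ample classes
-/

set_option autoImplicit false
set_option backward.isDefEq.respectTransparency false
set_option linter.style.haveILetI false
set_option synthInstance.maxHeartbeats 400000
set_option maxHeartbeats 1000000

universe u

open CategoryTheory CategoryTheory.Limits MonoidalCategory CartesianMonoidalCategory MonObj AlgebraicGeometry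
open Groth.Agent.PicLib (Pic cls exists_cls pull pull_cls cls_tensor cls_tensorPow cls_eq_cls)
open Groth.Agent.DegPolyLib (bil phi bil_self bil_comm bil_mul_left degE deg deg_eq_zero_iff degE_intCast)

noncomputable section

namespace Groth.Agent.WeilAVLib

variable {K : Type u} [Field K] (A : Over (Spec (CommRingCat.of K))) [GrpObj A] [IsProper A.hom]

/-- The intersection number on an abelian variety. -/
def topA {g : ℕ} (c : Fin g → Pic A.left) : ℤ :=
  letI := DegPolyLib.overStr A
  haveI : IsProper (A.left ↘ Spec (CommRingCat.of K)) := ‹IsProper A.hom›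
  DegPolyLib.top K c

variable {A}

/-- A symmetric ample class. -/
structure IsSA (c : Pic A.left) : Prop where
  ample : ∃ (L : A.left.Modules) (hL : CohB1.IsAmple L), cls hL.1 = c
  symm : pull ((𝟙 A)⁻¹).left c = c

theorem IsSA.mul {c d : Pic A.left} (hc : IsSA c) (hd : IsSA d) : IsSA (c * d) := by
  obtain ⟨L, hL, rfl⟩ := hc.ample
  obtain ⟨M, hM, rfl⟩ := hd.ample
  exact ⟨⟨_, AmpleLib.isAmple_tensor hL hM, rfl⟩, by rw [map_mul, hc.symm, hd.symm]⟩

theorem IsSA.exists_pow_div {c : Pic A.left} (hc : IsSA c) {d : Pic A.left}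
    (hd : pull ((𝟙 A)⁻¹).left d = d) : ∃ m : ℕ, 1 ≤ m ∧ IsSA (c ^ m / d) := by
  obtain ⟨L, hL, rfl⟩ := hc.ample
  obtain ⟨M, hM, hMd⟩ := exists_cls d⁻¹
  obtain ⟨N, hN⟩ := AmpleEmb.eventually_isAmple_tensor hL hM
  obtain ⟨h, -⟩ := hN (N + 1) (by omega)
  refine ⟨N + 1, by omega, ⟨_, h, ?_⟩, by rw [map_div, map_pow, hc.symm, hd]⟩
  rw [div_eq_mul_inv, ← hMd, ← cls_tensorPow hL.1]
  exact cls_tensor (AmpleLib.isInvertible_tensorPow hL.1 _) hM

variable [IsCommMonObj A] [GeometricallyIntegral A.hom]

omit [IsProper A.hom] [GeometricallyIntegral A.hom] in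
theorem inv_comp_hom (φ : EndAV.End A) : (𝟙 A)⁻¹ ≫ φ.toHom = φ.toHom ≫ (𝟙 A)⁻¹ := by
  rw [GrpObj.comp_inv, Category.comp_id, GrpObj.inv_comp, Category.id_comp]

omit [IsProper A.hom] [GeometricallyIntegral A.hom] in
theorem symm_pull {c : Pic A.left} (hc : pull ((𝟙 A)⁻¹).left c = c) (φ : EndAV.End A) :
    pull ((𝟙 A)⁻¹).left (pull φ.toHom.left c) = pull φ.toHom.left c := by
  rw [← PicLib.pull_comp, ← Over.comp_left, inv_comp_hom, Over.comp_left, PicLib.pull_comp, hc]

omit [GeometricallyIntegral A.hom] in
theorem IsSA.pull_finite {c : Pic A.left} (hc : IsSA c) (φ : EndAV.End A) (hφ : IsFinite φ.toHom.left) :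
    IsSA (pull φ.toHom.left c) := by
  haveI := hφ
  refine ⟨?_, symm_pull hc.symm φ⟩
  obtain ⟨L, hL, rfl⟩ := hc.ample
  exact ⟨_, AmpleLib.isAmple_pullback φ.toHom.left hL, (pull_cls _ hL.1).symm⟩

variable {g : ℕ} (hA : topologicalKrullDim A.left = g)

include hA

omit [GrpObj A] [IsCommMonObj A] in
theorem topA_update_mul (c : Fin g → Pic A.left) (i : Fin g) (a b : Pic A.left) :
    topA A (Function.update c i (a * b)) = topA A (Function.update c i a) + topA A (Function.update c i b) :=
  letI := DegPolyLib.overStr A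
  haveI : IsProper (A.left ↘ Spec (CommRingCat.of K)) := ‹IsProper A.hom›
  DegPolyLib.top_update_mul K hA.le c i a b

/-- One slot of the intersection form. -/
def slot (c : Fin g → Pic A.left) (i : Fin g) : Additive (Pic A.left) →+ ℤ :=
  AddMonoidHom.mk' (fun a => topA A (Function.update c i a.toMul)) fun a b => topA_update_mul hA c i a.toMul b.toMul

theorem slot_apply (c : Fin g → Pic A.left) (i : Fin g) (a : Pic A.left) :
    slot hA c i (Additive.ofMul a) = topA A (Function.update c i a) := rfl

omit [GrpObj A] [IsCommMonObj A] in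
theorem topA_pos_of_ample (c : Fin g → Pic A.left)
    (hc : ∀ i, ∃ (L : A.left.Modules) (hL : CohB1.IsAmple L), cls hL.1 = c i) : 0 < topA A c := by
  letI := DegPolyLib.overStr A
  haveI : IsProper (A.left ↘ Spec (CommRingCat.of K)) := ‹IsProper A.hom›
  haveI := EulerIneqLib.isNoetherian_proper (X := A.left) K
  choose L hL hLc using hc
  choose M hM hMc using fun i => exists_cls (c i)⁻¹
  have hLM : ∀ i, Nonempty (CohB1.tensorMod (L i) (M i) ≅ Coh.structureModule A.left) := fun i =>
    (PicLib.cls_eq_one (AmpleLib.isInvertible_tensor (hL i).1 (hM i))).1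
      (by rw [cls_tensor (hL i).1 (hM i), hLc, hMc, mul_inv_cancel])
  have hpos : 0 < IntLib.pairing K (Coh.structureModule A.left) (∏ i, IntLib.dif (hM i)) := by
    refine (IntLib.isPos_prod K g L M hL hM hLM _ (DevLib.isCoh_structureModule _)
      (DegPolyLib.dim_supp_structureModule hA.le)).2 ((HilbLib.not_dim_lt_iff ?_ g).1 ?_)
    · rw [DegPolyLib.support_structureModule]; exact isClosed_univ
    · rw [DegPolyLib.support_structureModule,
        (Homeomorph.Set.univ ↥A.left).isHomeomorph.topologicalKrullDim_eq, hA]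
      exact lt_irrefl _
  have e1 : IntLib.pairing K (Coh.structureModule A.left) (∏ i, IntLib.dif (hM i)) =
      (-1 : ℤ) ^ g * DegPolyLib.top K fun i => (c i)⁻¹ := by
    rw [DegPolyLib.top, ← smul_eq_mul, ← map_zsmul]
    congr 1
    simp only [← hMc, DegPolyLib.c1_cls, Nakai.cl_eq_neg_dif, Finset.prod_neg, Finset.card_univ, Fintype.card_fin]
    rw [zsmul_eq_mul, ← _root_.mul_assoc]
    push_cast
    rw [← mul_pow, neg_one_mul, neg_neg, one_pow, _root_.one_mul]
  have e2 : DegPolyLib.top K (fun i => (c i)⁻¹) = (-1 : ℤ) ^ g * DegPolyLib.top K c := by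
    have h := (DegPolyLib.topForm (X := A.left) K g hA.le).map_smul_univ (fun _ => (-1 : ℤ))
      (fun i => Additive.ofMul (c i))
    simp only [neg_one_zsmul, Finset.prod_const, Finset.card_univ, Fintype.card_fin, smul_eq_mul] at h
    exact h
  rw [e1, e2, ← _root_.mul_assoc, ← mul_pow, neg_one_mul, neg_neg, one_pow, _root_.one_mul] at hpos
  exact hpos

theorem topA_const_pull_of_not_finite (φ : EndAV.End A) (h : ¬ IsFinite φ.toHom.left) (c : Pic A.left) :
    topA A (fun _ : Fin g => pull φ.toHom.left c) = 0 :=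
  DegPolyLib.selfInt_pull_of_not_finite hA hA φ.toHom h c

omit hA

variable (A) in
/-- Sums of inverse images of symmetric ample classes. -/
def Sem : Submonoid (Pic A.left) :=
  Submonoid.closure {a | ∃ (φ : EndAV.End A) (c : Pic A.left), IsSA c ∧ pull φ.toHom.left c = a}

theorem pull_mem_Sem (φ : EndAV.End A) {c : Pic A.left} (hc : IsSA c) : pull φ.toHom.left c ∈ Sem A :=
  Submonoid.subset_closure ⟨φ, c, hc, rfl⟩

theorem IsSA.mem_Sem {c : Pic A.left} (hc : IsSA c) : c ∈ Sem A := by
  have h := pull_mem_Sem 1 hc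
  rwa [EndAV.End.toHom_one, Over.id_left, PicLib.pull_id] at h

theorem quad_nonneg {a b e : ℤ} {s : Set ℤ} (hs : s.Finite) (h : ∀ m ∉ s, 0 ≤ a * m ^ 2 + b * m + e) : 0 ≤ a := by
  by_contra ha
  obtain ⟨m, hm1, hm2⟩ : ∃ m, m ∉ s ∧ |b| + |e| + 1 ≤ m := by
    obtain ⟨m, h1, h2⟩ := ((Set.Ici_infinite (|b| + |e| + 1)).diff hs).nonempty
    exact ⟨m, h2, h1⟩
  have := h m hm1
  have hm0 : 1 ≤ m := le_trans (by linarith [abs_nonneg b, abs_nonneg e]) hm2
  nlinarith [le_abs_self b, le_abs_self e, abs_nonneg b, abs_nonneg e]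

include hA

theorem finite_not_finite_shift (φ : EndAV.End A) :
    {m : ℤ | ¬ IsFinite (EndAV.End.toHom (A := A) (m • φ + 1)).left}.Finite := by
  obtain ⟨P, -, hP⟩ := DegPolyLib.exists_polyE hA ![φ, (1 : EndAV.End A)]
  let R : Polynomial ℚ := MvPolynomial.aeval ![Polynomial.X, (1 : Polynomial ℚ)] P
  have hR : ∀ m : ℤ, R.eval (m : ℚ) = (degE (A := A) (m • φ + 1) : ℚ) := fun m => by
    have h := hP ![m, 1]
    rw [Fin.sum_univ_two] at h
    simp only [Matrix.cons_val_zero, Matrix.cons_val_one, one_zsmul] at h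
    rw [← h, ← Polynomial.coe_aeval_eq_eval, ← AlgHom.comp_apply, MvPolynomial.comp_aeval, MvPolynomial.aeval_eq_eval]
    congr 2
    funext i
    fin_cases i <;> simp
  have hR0 : R ≠ 0 := fun h0 => by
    have := hR 0
    rw [h0, Polynomial.eval_zero, zero_smul, zero_add, DegPolyLib.degE_one hA] at this
    norm_num at this
  refine Set.Finite.subset ((Polynomial.finite_setOf_isRoot hR0).preimage (Int.cast_injective.injOn)) fun m hm => ?_
  show R.eval (m : ℚ) = 0
  rw [hR m, degE, (deg_eq_zero_iff hA hA _).2 hm, Nat.cast_zero]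

theorem nonneg_aux : ∀ (n : ℕ) (c : Fin g → Pic A.left), (∀ i, n ≤ i.val → IsSA (c i)) →
    (∀ i, i.val < n → c i ∈ Sem A) → 0 ≤ topA A c := by
  intro n
  induction n with
  | zero => exact fun c h _ => (topA_pos_of_ample hA c fun i => (h i (Nat.zero_le _)).ample).le
  | succ n ih =>
    intro c hS hM
    by_cases hn : n < g
    · set i : Fin g := ⟨n, hn⟩
      suffices key : ∀ a ∈ Sem A, 0 ≤ slot hA c i (Additive.ofMul a) by
        have := key (c i) (hM i (Nat.lt_succ_self n))
        rwa [slot_apply, Function.update_eq_self] at this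
      intro a ha
      induction ha using Submonoid.closure_induction with
      | one => rw [ofMul_one, map_zero]
      | mul x y _ _ hx hy => rw [ofMul_mul, map_add]; exact add_nonneg hx hy
      | mem a ha =>
        obtain ⟨φ, X, hX, rfl⟩ := ha
        set T := slot hA c i
        refine quad_nonneg (b := T (Additive.ofMul (bil X φ.toHom (𝟙 A)))) (e := T (Additive.ofMul X))
          (finite_not_finite_shift hA φ) fun m hm => ?_
        simp only [Set.mem_setOf_eq, not_not] at hm
        have hpos : 0 ≤ T (Additive.ofMul (pull (EndAV.End.toHom (A := A) (m • φ + 1)).left X)) := by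
          rw [slot_apply]
          have hXm := hX.pull_finite _ hm
          refine ih _ (fun j hj => ?_) fun j hj => ?_
          · by_cases hji : j = i
            · subst hji; rw [Function.update_self]; exact hXm
            · rw [Function.update_of_ne hji]
              exact hS j (Nat.lt_of_le_of_ne hj fun e => hji (Fin.ext e.symm))
          · rw [Function.update_of_ne (fun e => by subst e; exact lt_irrefl _ hj)]
            exact hM j (Nat.lt_succ_of_lt hj)
        have h2 := DegPolyLib.two_phi_comb (V := A) X hX.symm ![φ.toHom, 𝟙 A] ![m, 1]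
        have he : (∏ j, (![φ.toHom, 𝟙 A] : Fin 2 → (A ⟶ A)) j ^ (![m, 1] : Fin 2 → ℤ) j) =
            EndAV.End.toHom (A := A) (m • φ + 1) := by
          rw [Fin.prod_univ_two, EndAV.End.toHom_add, EndAV.End.toHom_zsmul, EndAV.End.toHom_one]
          simp
        rw [he, Fintype.sum_prod_type] at h2
        simp only [Fin.sum_univ_two, Matrix.cons_val_zero, Matrix.cons_val_one] at h2
        rw [bil_comm X (𝟙 A) φ.toHom, bil_self X hX.symm, bil_self X hX.symm,
          show phi X (𝟙 A) = X from by rw [phi, Over.id_left, PicLib.pull_id]] at h2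
        have h3 := congrArg T h2
        simp only [map_add, map_zsmul, ofMul_mul, smul_eq_mul] at h3
        change 2 * T (Additive.ofMul (pull (EndAV.End.toHom (A := A) (m • φ + 1)).left X)) = _ at h3
        have h4 : T (Additive.ofMul (phi X φ.toHom)) = T (Additive.ofMul (pull φ.toHom.left X)) := rfl
        rw [h4] at h3
        nlinarith [hpos, h3]
    · exact ih c (fun i hi => absurd (lt_of_le_of_lt hi i.isLt) hn) fun i hi => hM i (Nat.lt_succ_of_lt hi)

theorem topA_nonneg (c : Fin g → Pic A.left) (hc : ∀ i, c i ∈ Sem A) : 0 ≤ topA A c :=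
  nonneg_aux hA g c (fun i hi => absurd i.isLt (not_lt.2 hi)) fun i _ => hc i

/-- The intersection number is monotone. -/
theorem topA_mono (y z : Fin g → Pic A.left) (hy : ∀ i, y i ∈ Sem A) (hz : ∀ i, z i ∈ Sem A)
    (hd : ∀ i, z i / y i ∈ Sem A) : topA A y ≤ topA A z := by
  classical
  have key : ∀ s : Finset (Fin g), topA A y ≤ topA A (fun i => if i ∈ s then z i else y i) := by
    intro s
    induction s using Finset.induction with
    | empty => simp
    | insert i s hi ih =>
      refine ih.trans ?_
      set w : Fin g → Pic A.left := fun j => if j ∈ s then z j else y j with hw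
      have e : (fun j => if j ∈ insert i s then z j else y j) = Function.update w i (y i * (z i / y i)) := by
        funext j
        by_cases hj : j = i
        · subst hj; simp
        · simp [hw, hj]
      have e' : Function.update w i (y i) = w := by
        refine Function.update_eq_self_iff.2 ?_
        simp [hw, hi]
      rw [e, topA_update_mul hA, e', le_add_iff_nonneg_right]
      refine topA_nonneg hA _ fun j => ?_
      by_cases hj : j = i
      · subst hj; rw [Function.update_self]; exact hd j
      · rw [Function.update_of_ne hj]; dsimp only [w]; split_ifs; exacts [hz j, hy j]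
  simpa using key Finset.univ

end Groth.Agent.WeilAVLib
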